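import Cfsg.Agent.H858.M24Norm
import Cfsg.Agent.H752.JM.Twelve_mg_m3
import Cfsg.Agent.H878.JM.Elts_m3
import Cfsg.Agent.KFacts.M24Two.Orders
import Cfsg.Agent.H859.SylEleven
import Cfsg.Agent.H858.Abs
import Cfsg.Agent.H860.JM.Defs
import Mathlib.GroupTheory.PGroup
import Cfsg.Agent.H856.JM.Comm_m3
import Cfsg.Agent.H68.JM.Vec_m3
import Cfsg.Agent.FastGrp
import Cfsg.Agent.Prune
set_option linter.all false

section
prune_inst 0x7f00000000000000000000000000000000000000000000000000000000000000000000000000000000000000000000000000000000000000000000000000000000000000000000000000000000000000003fffffffffffffffffffffffffffbeffbdffffffff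

-- part: H761/JM/P
section
set_option linter.all false
open scoped Cfsg.Agent.FastGrp

-- part: H761/JM/Three
section
/-!
# Elements of order 3 of `M24`: two classes (1^6 3^6 and 3^8)
-/

set_option autoImplicit false

open Cfsg

namespace Cfsg.Agent.H761.JM

open Cfsg.Agent.J4.M24Hom Cfsg.Agent.J4.Nodes Cfsg.Agent.J4.Packed

/-- word of the element `k0` of type `1^6 3^6` -/
def w0 : List ℕ :=
  [0, 2, 0, 2, 0, 1, 0, 2, 0, 1, 0, 2, 0, 1, 0, 1, 0, 2, 0, 2, 0, 2, 0, 1, 0, 1, 0, 1, 0, 2, 0,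
  2, 0, 2, 0, 2, 0, 1, 0, 1, 0, 2, 0, 2, 0, 2, 0, 1, 0, 2]

/-- word of the element `k1` of type `3^8` -/
def w1 : List ℕ :=
  [0, 2, 0, 1, 0, 2, 0, 1, 0, 2, 0, 1, 0, 2, 0, 1]

/-- the 26 nontrivial elements of a Sylow 3-subgroup: word, word of a conjugating element, type -/
def tab3 : List (List ℕ × List ℕ × ℕ) := [
  ([0, 1, 0, 1, 0, 2, 0, 1, 0, 1, 0, 1, 0, 1, 0, 2, 0, 1, 0, 1, 0, 1, 0, 2, 0, 1, 0, 1, 0, 1,
  0, 1, 0, 1, 0, 1, 0, 2, 0, 2, 0, 1, 0, 1, 0, 1, 0, 2, 0, 2], [0, 2, 0, 1, 0, 2, 0, 2, 0, 1,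
  0, 1, 0, 1, 0, 1, 0, 2, 0, 2, 0, 2, 0, 2, 0, 2, 0, 1, 0, 2, 0, 1, 0, 2, 0, 1, 0, 1, 0, 1, 0,
  2, 0, 1], 1),
  ([2, 0, 2, 0, 2, 0, 2, 0, 2, 0, 1, 0, 1, 0, 1, 0, 2, 0, 2, 0, 2, 0, 1, 0, 1, 0, 1, 0, 1, 0,
  1, 0, 1, 0, 1, 0, 2, 0, 2, 0, 2, 0, 1, 0, 1, 0, 2, 0, 2, 0, 1, 0, 1, 0, 1], [0, 2, 0, 2, 0,
  1, 0, 2, 0, 2, 0, 2, 0, 1, 0, 2, 0, 2, 0, 2, 0, 2, 0, 2, 0, 1, 0, 1, 0, 2, 0, 2, 0, 2, 0, 1,
  0, 1, 0, 1, 0, 1, 0, 1, 0], 1),
  ([0, 2, 0, 2, 0, 1, 0, 2, 0, 1, 0, 2, 0, 1, 0, 1, 0, 2, 0, 2, 0, 2, 0, 1, 0, 1, 0, 1, 0, 2,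
  0, 2, 0, 2, 0, 2, 0, 1, 0, 1, 0, 2, 0, 2, 0, 2, 0, 1, 0, 2], [2, 0, 2, 0, 2, 0, 1, 0, 1, 0,
  1, 0, 2, 0, 2, 0, 2, 0, 2, 0, 1, 0, 1, 0, 1, 0, 2, 0, 2, 0, 1, 0, 2, 0, 1, 0, 2, 0, 2, 0, 2,
  0, 1], 0),
  ([1, 0, 1, 0, 2, 0, 1, 0, 1, 0, 1, 0, 1, 0, 2, 0, 1, 0, 1, 0, 1, 0, 2, 0, 1, 0, 1, 0, 1, 0,
  1, 0, 1, 0, 1, 0, 2, 0, 2, 0, 1, 0, 1, 0, 1, 0, 2, 0, 2, 0], [1, 0, 1, 0, 2, 0, 2, 0, 2, 0,
  2, 0, 2, 0, 1, 0, 1, 0, 1, 0, 2, 0, 2, 0, 1, 0, 1, 0, 2, 0, 1, 0, 1, 0, 1, 0, 1], 1),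
  ([0, 1, 0, 1, 0, 1, 0, 2, 0, 2, 0, 2, 0, 1, 0, 1, 0, 1, 0, 2, 0, 1, 0, 2, 0, 2, 0, 2, 0, 1,
  0, 1, 0, 1, 0, 2, 0, 1, 0, 1, 0, 2, 0, 1, 0, 2, 0, 1, 0, 1, 0, 1, 0, 2], [1, 0, 2, 0, 2, 0,
  2, 0, 1, 0, 2, 0, 2, 0, 2, 0, 2, 0, 2, 0, 2, 0, 2, 0, 1, 0, 2, 0, 1, 0, 1, 0, 2, 0, 1, 0, 1,
  0, 1, 0, 1, 0], 0),
  ([1, 0, 2, 0, 2, 0, 1, 0, 2, 0, 2, 0, 2, 0, 2, 0, 2, 0, 1, 0, 2, 0, 2, 0, 1, 0, 1, 0, 1, 0,
  2, 0, 1, 0, 1, 0, 1, 0, 1, 0, 1, 0, 1], [0, 2, 0, 1, 0, 1, 0, 1, 0, 1, 0, 1, 0, 2, 0, 1, 0,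
  1, 0, 2, 0, 2, 0, 2, 0, 1, 0, 1, 0, 1, 0, 1, 0, 1, 0, 2, 0, 2, 0, 1, 0, 1, 0, 2, 0, 2], 1),
  ([1, 0, 1, 0, 1, 0, 1, 0, 1, 0, 1, 0, 1, 0, 2, 0, 1, 0, 2, 0, 2, 0, 2, 0, 1, 0, 2, 0, 2, 0,
  2, 0, 2, 0, 2, 0, 2, 0, 2, 0, 1, 0, 2, 0, 2, 0, 2, 0, 1, 0, 1, 0, 2, 0], [0, 2, 0, 2, 0, 1,
  0, 1, 0, 1, 0, 2, 0, 2, 0, 2, 0, 2, 0, 2, 0, 1, 0, 2, 0, 2, 0, 2, 0, 1, 0, 1], 0),
  ([2, 0, 2, 0, 1, 0, 1, 0, 1, 0, 2, 0, 2, 0, 2, 0, 2, 0, 2, 0, 2, 0, 2, 0, 2, 0, 2, 0, 1, 0,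
  1, 0, 1, 0, 2, 0, 2, 0, 1, 0, 1, 0, 2, 0, 1, 0, 2, 0, 2, 0, 2, 0, 2, 0, 1], [2, 0, 2, 0, 2,
  0, 2, 0, 2, 0, 2, 0, 2, 0, 2, 0, 2, 0, 1, 0, 1, 0, 1, 0, 1, 0, 2, 0, 1, 0, 2, 0, 2, 0, 1, 0],
  1),
  ([2, 0, 2, 0, 2, 0, 1, 0, 2, 0, 1, 0, 2, 0, 1, 0, 1, 0, 1, 0, 1, 0, 1, 0, 2, 0, 1, 0, 1, 0,
  1, 0, 1, 0, 2, 0, 2, 0, 2, 0, 1, 0, 1, 0, 1, 0, 1, 0, 2, 0, 1, 0, 1], [0, 2, 0, 2, 0, 2, 0,
  1, 0, 2, 0, 1, 0, 2, 0, 1, 0, 2, 0, 2, 0, 2, 0, 2, 0, 1, 0, 2, 0, 2, 0, 1, 0, 1, 0, 1, 0, 2,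
  0, 1, 0, 2, 0, 1], 1),
  ([1, 0, 2, 0, 1, 0, 1, 0, 1, 0, 2, 0, 2, 0, 1, 0, 1, 0, 1, 0, 1, 0, 2, 0, 2, 0, 2, 0, 1, 0,
  1, 0, 1, 0, 2, 0, 2, 0, 1, 0, 2, 0, 1, 0, 2, 0, 1, 0, 1, 0], [2, 0, 1, 0, 1, 0, 2, 0, 1, 0,
  1, 0, 1, 0, 2, 0, 2, 0, 1, 0, 1, 0, 1, 0, 2, 0, 2, 0, 2, 0, 2, 0, 1, 0, 1, 0, 1, 0, 2, 0, 1,
  0, 2, 0, 1], 0),
  ([0, 1, 0, 1, 0, 2, 0, 2, 0, 2, 0, 2, 0, 2, 0, 1, 0, 1, 0, 2, 0, 2, 0, 1, 0, 1, 0, 1, 0, 2,
  0, 1, 0, 1, 0, 1, 0, 1, 0, 1, 0, 1, 0, 1, 0, 2, 0, 1, 0, 1, 0, 2, 0, 1, 0, 2, 0], [0, 1, 0,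
  2, 0, 2, 0, 1, 0, 1, 0, 2, 0, 1, 0, 2, 0, 2, 0, 2, 0, 1, 0, 2, 0, 2, 0, 1, 0, 1, 0, 1, 0, 1,
  0, 2, 0, 1, 0, 1, 0, 1, 0], 0),
  ([1, 0, 2, 0, 1, 0, 1, 0, 1, 0, 2, 0, 1, 0, 2, 0, 1, 0, 2, 0, 1, 0, 2, 0, 2, 0, 1, 0, 2, 0,
  1, 0, 1, 0, 2, 0, 2, 0, 1, 0, 1, 0, 1, 0, 1, 0, 2, 0, 1, 0], [0, 1, 0, 1, 0, 2, 0, 1, 0, 1,
  0, 2, 0, 2, 0, 1, 0, 2, 0, 2, 0, 2, 0, 2, 0, 1, 0, 2, 0, 2, 0, 1, 0, 1, 0, 1, 0, 2, 0, 1], 1),
  ([2, 0, 1, 0, 2, 0, 1, 0, 2, 0, 1, 0, 1, 0, 1, 0, 2, 0, 2, 0, 1, 0, 1, 0, 1, 0, 2, 0, 1, 0,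
  1, 0, 1, 0, 1, 0, 1, 0, 1, 0, 2, 0, 1, 0, 1, 0, 1, 0, 1, 0, 2, 0], [2, 0, 1, 0, 2, 0, 2, 0,
  1, 0, 2, 0, 2, 0, 2, 0, 1, 0, 2, 0, 1, 0, 2, 0, 1, 0, 1, 0, 2, 0, 2, 0, 1, 0, 2, 0, 1, 0, 1,
  0, 1, 0, 1], 0),
  ([2, 0, 2, 0, 1, 0, 1, 0, 2, 0, 1, 0, 1, 0, 1, 0, 2, 0, 2, 0, 1, 0, 1, 0, 1, 0, 1, 0, 2, 0,
  1, 0, 2, 0, 1, 0, 2, 0, 1, 0, 1, 0, 2, 0, 2, 0, 2, 0, 1, 0], [0, 1, 0, 2, 0, 2, 0, 2, 0, 1,
  0, 1, 0, 2, 0, 2, 0, 1, 0, 2, 0, 1, 0, 2, 0, 1, 0, 1, 0, 1, 0, 1, 0, 2, 0, 1, 0, 1, 0, 1], 0),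
  ([1, 0, 2, 0, 1, 0, 1, 0, 1, 0, 1, 0, 2, 0, 1, 0, 2, 0, 1, 0, 2, 0, 1, 0, 2, 0, 1, 0, 1, 0,
  2, 0, 1, 0, 2, 0, 1, 0, 1, 0, 2, 0, 2, 0, 2, 0, 1, 0, 2, 0, 2, 0], [1, 0, 1, 0, 2, 0, 1, 0,
  1, 0, 1, 0, 2, 0, 1, 0, 1, 0, 1, 0, 1, 0, 2, 0, 2, 0, 1, 0, 1, 0, 1, 0, 1, 0, 2, 0, 1, 0, 1,
  0], 0),
  ([0, 2, 0, 1, 0, 2, 0, 2, 0, 2, 0, 2, 0, 1, 0, 1, 0, 2, 0, 2, 0, 1, 0, 2, 0, 1, 0, 1, 0, 2,
  0, 1, 0, 2, 0, 1, 0, 2, 0, 1, 0, 2, 0, 2, 0, 2, 0, 1, 0, 2], [1, 0, 1, 0, 1, 0, 1, 0, 1, 0,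
  2, 0, 2, 0, 2, 0, 1, 0, 2, 0, 1, 0, 1, 0, 1, 0, 2, 0, 1, 0, 1, 0, 2, 0, 2, 0, 2, 0, 1, 0, 2,
  0], 1),
  ([0, 2, 0, 1, 0, 1, 0, 1, 0, 2, 0, 2, 0, 1, 0, 2, 0, 1, 0, 2, 0, 1, 0, 2, 0, 2, 0, 2, 0, 2,
  0, 1, 0, 1, 0, 2, 0, 2, 0, 2, 0, 1, 0, 2, 0, 2, 0, 1, 0, 1], [1, 0, 1, 0, 1, 0, 1, 0, 2, 0,
  2, 0, 2, 0, 2, 0, 1, 0, 1, 0, 1, 0, 2, 0, 2, 0, 2, 0, 2, 0, 1, 0, 2, 0, 2, 0, 2, 0, 2, 0, 1,
  0, 2, 0, 2], 0),
  ([1, 0, 2, 0, 1, 0, 2, 0, 2, 0, 1, 0, 1, 0, 1, 0, 1, 0, 1, 0, 1, 0, 2, 0, 1, 0, 2, 0, 1, 0,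
  2, 0, 1, 0, 2, 0, 2, 0, 1, 0, 2, 0, 1, 0, 2, 0, 2, 0, 1, 0, 1, 0], [0, 2, 0, 2, 0, 1, 0, 2,
  0, 2, 0, 1, 0, 1, 0, 2, 0, 2, 0, 2, 0, 2, 0, 1, 0, 1, 0, 2, 0, 2, 0, 2, 0, 2, 0, 2, 0, 2, 0,
  2, 0, 2, 0, 1, 0], 0),
  ([0, 1, 0, 2, 0, 1, 0, 2, 0, 2, 0, 1, 0, 2, 0, 2, 0, 2, 0, 2, 0, 2, 0, 2, 0, 2, 0, 1, 0, 2,
  0, 2, 0, 2, 0, 1, 0, 1, 0, 2, 0, 2, 0, 1, 0, 1, 0, 1, 0, 1, 0, 1, 0, 2, 0, 2, 0], [1, 0, 2,
  0, 2, 0, 1, 0, 2, 0, 2, 0, 2, 0, 2, 0, 2, 0, 2, 0, 1, 0, 2, 0, 2, 0, 2, 0, 1, 0, 1, 0, 2, 0,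
  2, 0, 1, 0, 1], 0),
  ([0, 1, 0, 2, 0, 1, 0, 2, 0, 1, 0, 2, 0, 1, 0, 1, 0, 2, 0, 1, 0, 2, 0, 1, 0, 1, 0, 2, 0, 2,
  0, 2, 0, 1, 0, 1, 0, 1, 0, 1, 0, 1, 0, 1, 0, 1, 0, 2, 0, 2, 0], [0, 2, 0, 1, 0, 2, 0, 2, 0,
  2, 0, 2, 0, 1, 0, 2, 0, 2, 0, 2, 0, 1, 0, 1, 0, 2, 0, 2, 0, 1, 0, 1, 0, 1, 0, 2, 0, 2, 0, 1,
  0, 1, 0], 1),
  ([0, 1, 0, 1, 0, 2, 0, 2, 0, 2, 0, 2, 0, 2, 0, 2, 0, 2, 0, 1, 0, 1, 0, 1, 0, 2, 0, 2, 0, 1,
  0, 2, 0, 1, 0, 2, 0, 2, 0, 1, 0, 2, 0, 1, 0, 2, 0, 1, 0, 2, 0], [0, 1, 0, 2, 0, 1, 0, 1, 0,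
  1, 0, 2, 0, 2, 0, 2, 0, 2, 0, 1, 0, 1, 0, 1, 0, 1, 0, 2, 0, 2, 0, 2, 0, 2, 0, 1, 0, 2, 0, 1,
  0, 1, 0, 2, 0, 2], 1),
  ([0, 1, 0, 2, 0, 2, 0, 1, 0, 1, 0, 1, 0, 2, 0, 1, 0, 1, 0, 1, 0, 1, 0, 1, 0, 1, 0, 1, 0, 2,
  0, 1, 0, 1, 0, 1, 0, 2, 0, 1, 0, 2, 0, 2, 0, 2, 0, 2, 0, 2, 0, 2, 0, 2], [1, 0, 2, 0, 2, 0,
  1, 0, 2, 0, 2, 0, 2, 0, 2, 0, 1, 0, 1, 0, 1, 0, 1, 0, 2, 0, 2, 0, 2, 0, 2, 0, 1, 0, 1, 0, 1,
  0, 2, 0, 1, 0, 2, 0, 1, 0, 1], 0),
  ([2, 0, 2, 0, 2, 0, 2, 0, 2, 0, 2, 0, 1, 0, 2, 0, 2, 0, 2, 0, 1, 0, 1, 0, 2, 0, 1, 0, 1, 0,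
  1, 0, 1, 0, 1, 0, 2, 0, 1, 0, 1, 0, 2], [0, 2, 0, 1, 0, 2, 0, 1, 0, 2, 0, 1, 0, 2, 0, 1, 0,
  1, 0, 2, 0, 2, 0, 2, 0, 2, 0, 1, 0, 2, 0, 1, 0, 1, 0, 1, 0, 2, 0, 2, 0, 2, 0, 1], 1),
  ([1, 0, 2, 0, 2, 0, 1, 0, 1, 0, 2, 0, 2, 0, 1, 0, 2, 0, 2, 0, 1, 0, 1, 0, 1, 0, 1, 0, 1, 0,
  1, 0, 2, 0, 1, 0, 2, 0, 2, 0, 2, 0, 1, 0, 1, 0, 1, 0, 2, 0, 2, 0, 2, 0], [0, 2, 0, 2, 0, 2,
  0, 1, 0, 1, 0, 2, 0, 2, 0, 2, 0, 2, 0, 2, 0, 1, 0, 2, 0, 2, 0, 2, 0, 1, 0, 2, 0, 2, 0, 2, 0,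
  1, 0, 1, 0, 2, 0], 0),
  ([0, 1, 0, 1, 0, 2, 0, 1, 0, 1, 0, 1, 0, 2, 0, 2, 0, 1, 0, 2, 0, 1, 0, 2, 0, 2, 0, 1, 0, 2,
  0, 1, 0, 2, 0, 1, 0, 2, 0, 1, 0, 2, 0, 2, 0, 2, 0, 2, 0, 1, 0, 2], [1, 0, 1, 0, 1, 0, 2, 0,
  2, 0, 1, 0, 1, 0, 1, 0, 2, 0, 1, 0, 1, 0, 1, 0, 2, 0, 1, 0, 2, 0, 1, 0, 2, 0, 1, 0, 2, 0, 2,
  0, 2, 0, 1, 0, 1, 0, 2, 0], 0),
  ([2, 0, 2, 0, 1, 0, 2, 0, 2, 0, 2, 0, 2, 0, 1, 0, 1, 0, 1, 0, 2, 0, 2, 0, 2, 0, 2, 0, 1, 0,
  2, 0, 2, 0, 2, 0, 2, 0, 2, 0, 1, 0, 2, 0, 1, 0, 2, 0, 1, 0, 1, 0, 1], [1, 0, 2, 0, 2, 0, 1,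
  0, 1, 0, 1, 0, 1, 0, 2, 0, 2, 0, 2, 0, 2, 0, 1, 0, 2, 0, 1, 0, 2, 0, 1, 0, 2, 0, 1, 0, 2, 0,
  1, 0, 1, 0, 1, 0, 1], 1)]

/-- the packed elements of the Sylow 3-subgroup -/
def l27 : List ℕ := ID :: tab3.map fun r => wordP r.1

/-- the check -/
def chk3 : Bool :=
  (l27.all fun a => l27.all fun b => l27.any fun c => Nat.beq (pmul a b) c) &&
  (l27.all fun a => l27.any fun b => Nat.beq (pmul a b) ID) &&
  Nat.beq l27.length 27 && decide (l27.Nodup) &&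
  (tab3.all fun r => Nat.beq (wordP (r.2.1 ++ r.1))
    (bif Nat.beq r.2.2 0 then wordP (w0 ++ r.2.1) else wordP (w1 ++ r.2.1)))

theorem rep_unique {n n' : ℕ} {g : M24} (h : Rep n g) (h' : Rep n' g) (hn : n < 2 ^ 192)
    (hn' : n' < 2 ^ 192) : n = n' := by
  apply Nat.eq_of_testBit_eq
  intro k
  rcases Nat.lt_or_ge k 192 with hk | hk
  · have e : ∀ n : ℕ, n.testBit k = (getb n (k / 8)).testBit (k % 8) := by
      intro n
      rw [testBit_getb, Nat.div_add_mod, decide_eq_true (Nat.mod_lt k (by norm_num)),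
        Bool.and_true]
    rw [e n, e n']
    obtain ⟨j, hj, h1, h2⟩ := h (k / 8) (by omega)
    obtain ⟨j', hj', h3, h4⟩ := h' (k / 8) (by omega)
    have h5 : j = j' := lab_inj j hj j' hj' (h2.symm.trans h4)
    rw [h1, h3, h5]
  · have h192 : (2 : ℕ) ^ 192 ≤ 2 ^ k := Nat.pow_le_pow_right (by norm_num) hk
    rw [Nat.testBit_lt_two_pow (lt_of_lt_of_le hn h192),
      Nat.testBit_lt_two_pow (lt_of_lt_of_le hn' h192)]

private theorem pmulP_lt (a b : ℕ) : pmul a b < 2 ^ 192 := by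
  refine Nat.lt_pow_two_of_testBit _ fun k hk => ?_
  have h := testBit_getb (pmul a b) (k / 8) (k % 8)
  rw [Nat.div_add_mod, decide_eq_true (Nat.mod_lt k (by norm_num)), Bool.and_true] at h
  rw [← h, pmul, force_eq, force_eq, getb_pmulAux, if_neg (by show ¬ k / 8 < 24; omega)]
  show ((0 >>> (8 * (k / 8))) &&& 255).testBit (k % 8) = false
  rw [Nat.zero_shiftRight, Nat.zero_and, Nat.zero_testBit]

private theorem wordP_ltP (l : List ℕ) : wordP l < 2 ^ 192 := by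
  cases l with
  | nil => decide +kernel
  | cons a l => exact pmulP_lt _ _

private theorem wordP_app (u v : List ℕ) : wordP (u ++ v) = pmul (wordP u) (wordP v) := by
  refine rep_unique (rep_word _) ?_ (wordP_ltP _) (pmulP_lt _ _)
  rw [Cfsg.Agent.H858.M24Norm.wordG_append]
  exact rep_mul (rep_word u) (rep_word v)

private noncomputable def w4P : List ℕ → ℕ
  | a :: b :: c :: d :: l => pmul (wordP [a, b, c, d]) (w4P l)
  | l => wordP l

private theorem w4P_eq : ∀ l : List ℕ, wordP l = w4P l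
  | a :: b :: c :: d :: l => (wordP_app [a, b, c, d] l).trans (congrArg (pmul (wordP [a, b, c, d])) (w4P_eq l))
  | [] => rfl
  | [_] => rfl
  | [_, _] => rfl
  | [_, _, _] => rfl

private theorem mapP_eq (T : List (List ℕ × List ℕ × ℕ)) : (T.map fun r => wordP r.1) = T.map fun r => w4P r.1 := by
  simp only [w4P_eq]

private theorem rowP_eq (T : List (List ℕ × List ℕ × ℕ)) (u v : List ℕ) :
    (T.all fun r => Nat.beq (wordP (r.2.1 ++ r.1)) (bif Nat.beq r.2.2 0 then wordP (u ++ r.2.1) else wordP (v ++ r.2.1))) =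
    (T.all fun r => Nat.beq (pmul (w4P r.2.1) (w4P r.1))
      (bif Nat.beq r.2.2 0 then pmul (w4P u) (w4P r.2.1) else pmul (w4P v) (w4P r.2.1))) := by
  simp only [wordP_app]
  simp only [w4P_eq]

set_option maxRecDepth 10000 in
theorem chk3_ok : chk3 = true := by
  delta chk3 l27
  rewrite [mapP_eq, rowP_eq]
  decide +kernel

theorem chk3_mul {a b : ℕ} (ha : a ∈ l27) (hb : b ∈ l27) : pmul a b ∈ l27 := by
  have h := chk3_ok
  unfold chk3 at h
  rw [Bool.and_eq_true, Bool.and_eq_true, Bool.and_eq_true, Bool.and_eq_true] at h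
  have h1 := List.all_eq_true.1 (List.all_eq_true.1 h.1.1.1.1 a ha) b hb
  obtain ⟨c, hc, h2⟩ := List.any_eq_true.1 h1
  rw [Nat.eq_of_beq_eq_true h2]
  exact hc

theorem chk3_inv {a : ℕ} (ha : a ∈ l27) : ∃ b ∈ l27, pmul a b = ID := by
  have h := chk3_ok
  unfold chk3 at h
  rw [Bool.and_eq_true, Bool.and_eq_true, Bool.and_eq_true, Bool.and_eq_true] at h
  obtain ⟨c, hc, h2⟩ := List.any_eq_true.1 (List.all_eq_true.1 h.1.1.1.2 a ha)
  exact ⟨c, hc, Nat.eq_of_beq_eq_true h2⟩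

theorem l27_nodup : l27.Nodup := by
  have h := chk3_ok
  unfold chk3 at h
  rw [Bool.and_eq_true, Bool.and_eq_true, Bool.and_eq_true, Bool.and_eq_true] at h
  exact of_decide_eq_true h.1.2

theorem l27_length : l27.length = 27 := by
  have h := chk3_ok
  unfold chk3 at h
  rw [Bool.and_eq_true, Bool.and_eq_true, Bool.and_eq_true, Bool.and_eq_true] at h
  exact Nat.eq_of_beq_eq_true h.1.1.2

theorem chk3_row {r : List ℕ × List ℕ × ℕ} (hr : r ∈ tab3) :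
    wordG r.2.1 * wordG r.1 = wordG w0 * wordG r.2.1 ∨
    wordG r.2.1 * wordG r.1 = wordG w1 * wordG r.2.1 := by
  have h := chk3_ok
  unfold chk3 at h
  rw [Bool.and_eq_true, Bool.and_eq_true, Bool.and_eq_true, Bool.and_eq_true] at h
  have h1 := Nat.eq_of_beq_eq_true (List.all_eq_true.1 h.2 r hr)
  rw [← Cfsg.Agent.H858.M24Norm.wordG_append, ← Cfsg.Agent.H858.M24Norm.wordG_append,
    ← Cfsg.Agent.H858.M24Norm.wordG_append]
  rcases hb : Nat.beq r.2.2 0 with _ | _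
  · rw [hb] at h1; exact Or.inr (Cfsg.Agent.H858.M24Norm.wordG_eq h1)
  · rw [hb] at h1; exact Or.inl (Cfsg.Agent.H858.M24Norm.wordG_eq h1)

/-- the Sylow 3-subgroup -/
def S27 : Subgroup M24 where
  carrier := {g | ∃ n ∈ l27, Rep n g}
  mul_mem' := by
    rintro a b ⟨n, hn, h1⟩ ⟨m, hm, h2⟩
    exact ⟨_, chk3_mul hn hm, rep_mul h1 h2⟩
  one_mem' := ⟨ID, List.mem_cons_self .., rep_one⟩
  inv_mem' := by
    rintro a ⟨n, hn, h1⟩
    obtain ⟨m, hm, h2⟩ := chk3_inv hn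
    exact ⟨m, hm, rep_inv h1 h2⟩

theorem exists_rep {n : ℕ} (hn : n ∈ l27) : ∃ g : M24, Rep n g ∧ (n = ID ∨ ∃ r ∈ tab3,
    g = wordG r.1) := by
  unfold l27 at hn
  rcases List.mem_cons.1 hn with rfl | h
  · exact ⟨1, rep_one, Or.inl rfl⟩
  · obtain ⟨r, hr, rfl⟩ := List.mem_map.1 h
    exact ⟨_, rep_word _, Or.inr ⟨r, hr, rfl⟩⟩


theorem l27_lt : ∀ n ∈ l27, n < 2 ^ 192 := by
  intro n hn
  rcases List.mem_cons.1 hn with rfl | hn
  · exact wordP_ltP []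
  · obtain ⟨r, -, rfl⟩ := List.mem_map.1 hn
    exact wordP_ltP _

theorem card_S27 : Nat.card S27 = 27 := by
  classical
  have hex : ∀ g : S27, ∃ n : {n // n ∈ l27}, Rep n.1 (g : M24) := fun g => by
    obtain ⟨n, hn, h⟩ := g.2
    exact ⟨⟨n, hn⟩, h⟩
  choose f hf using hex
  have hbij : Function.Bijective f := by
    constructor
    · intro a b hab
      apply Subtype.ext
      have h1 := hf b
      rw [← hab] at h1
      exact rep_inj (hf a) h1
    · rintro ⟨n, hn⟩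
      obtain ⟨g, hg, -⟩ := exists_rep hn
      refine ⟨⟨g, n, hn, hg⟩, ?_⟩
      apply Subtype.ext
      exact rep_unique (hf ⟨g, n, hn, hg⟩) hg (l27_lt _ (f ⟨g, n, hn, hg⟩).2) (l27_lt _ hn)
  rw [Nat.card_congr (Equiv.ofBijective f hbij)]
  have h1 : Nat.card {n // n ∈ l27} = Nat.card {n // n ∈ l27.toFinset} :=
    Nat.card_congr (Equiv.subtypeEquivRight fun n => List.mem_toFinset.symm)
  rw [h1, Nat.card_eq_finsetCard, List.toFinset_card_of_nodup l27_nodup, l27_length]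

/-- **the elements of order 3 of `M24`** -/
theorem order3 (m : M24) (h1 : m ≠ 1) (h3 : m * m * m = 1) :
    ∃ g : M24, g * m * g⁻¹ = wordG w0 ∨ g * m * g⁻¹ = wordG w1 := by
  have hfin := Cfsg.Agent.H858.M24Norm.finite_M24
  have hp : IsPGroup 3 (Subgroup.zpowers m) := by
    rw [IsPGroup.iff_card]
    refine ⟨1, ?_⟩
    rw [Nat.card_zpowers, pow_one]
    exact orderOf_eq_prime (by rw [pow_succ, pow_two, h3]) h1
  have hidx : ¬ 3 ∣ Nat.card (M24 ⧸ S27) := by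
    have h := S27.card_mul_index
    rw [card_S27, Cfsg.Agent.H858.M24Norm.card_M24] at h
    rw [← Subgroup.index_eq_card]
    omega
  have : Fact (Nat.Prime 3) := ⟨Nat.prime_three⟩
  obtain ⟨x, hx⟩ := hp.nonempty_fixed_point_of_prime_not_dvd_card (M24 ⧸ S27) hidx
  obtain ⟨g, rfl⟩ := QuotientGroup.mk_surjective x
  have h5 := hx ⟨m, Subgroup.mem_zpowers m⟩
  have h6 : (QuotientGroup.mk (m * g) : M24 ⧸ S27) = QuotientGroup.mk g := h5
  rw [eq_comm, QuotientGroup.eq] at h6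
  obtain ⟨n, hn, h7⟩ := h6
  obtain ⟨e, he, h8⟩ := exists_rep hn
  have h9 : g⁻¹ * (m * g) = e := rep_inj h7 he
  rcases h8 with h8 | ⟨r, hr, h8⟩
  · exfalso
    apply h1
    have h10 : e = 1 := by rw [h8] at he; exact rep_inj he rep_one
    rw [h10, inv_mul_eq_one] at h9
    exact right_eq_mul.1 h9
  · have h11 := chk3_row hr
    rw [← h8, ← h9] at h11
    refine ⟨wordG r.2.1 * g⁻¹, ?_⟩
    rcases h11 with h11 | h11
    · left
      calc wordG r.2.1 * g⁻¹ * m * (wordG r.2.1 * g⁻¹)⁻¹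
          = (wordG r.2.1 * (g⁻¹ * (m * g))) * (wordG r.2.1)⁻¹ := by group
        _ = wordG w0 := by rw [h11, mul_inv_cancel_right]
    · right
      calc wordG r.2.1 * g⁻¹ * m * (wordG r.2.1 * g⁻¹)⁻¹
          = (wordG r.2.1 * (g⁻¹ * (m * g))) * (wordG r.2.1)⁻¹ := by group
        _ = wordG w1 := by rw [h11, mul_inv_cancel_right]

end Cfsg.Agent.H761.JM
end

-- part: H761/JM/P
section
/-!
# The A4-subgroups of `J4` with four-group in `2^11` and normalizing it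
-/

set_option autoImplicit false

open Cfsg

namespace Cfsg.Agent.H761.JM

open Cfsg.Agent.J4.M24Hom Cfsg.Agent.J4.Nodes Cfsg.Agent.J4.Pres Cfsg.Agent.J4.Classes
open Cfsg.Agent.J4.Beta Cfsg.Agent.J4.ClassesData Cfsg.Agent.J4.Invol Cfsg.Agent.J4.ClassesAbs
open Cfsg.Agent.H858.VK Cfsg.Agent.H858.Data Cfsg.Agent.H858 Cfsg.Agent.Lib

local notation "𝒢" => Cfsg.Spor.J4

/-- word of an element commuting with `k0` -/
def c00 : List ℕ :=
  [0, 2, 0, 2, 0, 1, 0, 2, 0, 1, 0, 1, 0, 1, 0, 2, 0, 1, 0, 1, 0, 1, 0, 1, 0, 1, 0, 2, 0, 1, 0,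
  1]

/-- word of an element commuting with `k0` -/
def c01 : List ℕ :=
  [2, 0, 2, 0, 1, 0, 2, 0, 1, 0, 1, 0, 1, 0, 2, 0, 1, 0, 1, 0, 2, 0, 2, 0, 1, 0, 1, 0, 2, 0, 1,
  0, 1, 0, 1, 0, 2, 0, 1, 0, 1, 0, 2, 0, 2]

/-- orbit table -/
def T0 : List (ℕ × ℕ) := [
  (177, 0), (550, 1), (1740, 0), (347, 1), (1065, 0), (1109, 1), (1404, 0), (596, 1), (1832,
  1), (1294, 0), (663, 1), (1457, 0), (295, 1), (1394, 0), (962, 1), (1726, 0), (408, 1), (602,
  1), (2021, 0), (1551, 1), (741, 0), (769, 0), (297, 1), (747, 0), (1176, 1), (1882, 0),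
  (1471, 1), (665, 0), (1115, 1), (2027, 0), (1945, 1), (958, 1), (1174, 0), (1730, 1), (114,
  0), (195, 1), (205, 1), (1943, 1), (1876, 1), (883, 1), (1280, 0), (490, 0), (1485, 1),
  (1651, 0), (944, 0), (783, 1), (14, 0), (406, 1), (1258, 0), (1712, 1), (552, 0), (1063, 0),
  (1475, 1), (341, 0), (1537, 1), (484, 1), (1830, 0), (1252, 1), (124, 0), (191, 1), (893, 0)]

/-- representatives -/
def R0 : List ℕ := [972, 1661]

/-- word of an element commuting with `k1` -/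
def c10 : List ℕ :=
  [0, 1, 0, 2, 0, 2, 0, 1, 0, 1, 0, 2, 0, 1, 0, 2, 0, 2, 0, 2, 0, 2, 0, 1, 0, 2, 0, 1, 0, 2, 0,
  1, 0, 1, 0, 1, 0, 2, 0, 2, 0, 1, 0, 2, 0]

/-- word of an element commuting with `k1` -/
def c11 : List ℕ :=
  [2, 0, 1, 0]

/-- orbit table -/
def T1 : List (ℕ × ℕ) := [
  (619, 0), (600, 1), (1827, 0), (1886, 1), (1181, 0), (1415, 1), (1106, 0), (1403, 1), (209,
  0), (1439, 1), (860, 0), (786, 1), (1157, 0), (284, 1), (1192, 0), (43, 1), (207, 0), (252,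
  1), (705, 0), (305, 1), (987, 0), (332, 1), (1649, 0), (1409, 1), (1980, 1), (1026, 0), (834,
  1), (1458, 0), (86, 1), (649, 0), (915, 1), (1248, 0), (2036, 0), (825, 1), (1098, 0), (480,
  1), (778, 0), (1235, 1), (135, 1), (1757, 1), (1978, 0), (99, 1), (1808, 1), (1774, 0), (836,
  1), (430, 0), (1655, 1), (1696, 0), (30, 1), (1929, 1), (1360, 0), (413, 1), (621, 1), (1628,
  0), (1206, 1), (389, 0), (1720, 1), (2015, 0), (1014, 1), (1272, 0), (1554, 1), (1452, 0),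
  (1333, 1), (123, 1), (504, 0), (438, 1), (2028, 1), (1121, 0), (303, 1), (674, 0), (159, 0),
  (1733, 1), (965, 0), (1071, 1), (748, 1), (1954, 1), (801, 0), (1052, 1), (1489, 1), (907,
  1), (1352, 1), (1569, 1), (520, 1), (1782, 1), (629, 1), (338, 1), (1286, 1), (1985, 1),
  (411, 1), (549, 0), (258, 1), (24, 0), (1179, 1), (1548, 1), (129, 0), (934, 1), (1899, 0),
  (1532, 1), (101, 0), (917, 1), (2034, 0), (1768, 0), (700, 1), (1702, 0), (486, 1), (1602,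
  1), (1814, 0), (754, 1), (655, 1), (1599, 1), (780, 1), (1685, 1), (1237, 1), (1151, 1),
  (1381, 1), (534, 1), (1254, 0), (881, 1), (1755, 0), (1829, 1), (1100, 1), (1366, 1), (1325,
  0), (1683, 1), (1379, 1), (606, 1), (80, 1), (311, 0), (330, 1), (201, 0), (260, 1), (1593,
  1), (1310, 1), (928, 1), (989, 0), (180, 1), (1006, 0), (1604, 1), (1079, 1), (1145, 1),
  (1481, 1), (1530, 1), (1546, 1), (1460, 1), (887, 1), (547, 0), (250, 1), (756, 1), (45, 1),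
  (172, 0), (657, 1), (1937, 0), (53, 1), (735, 1), (571, 1), (353, 1), (1909, 1), (72, 1),
  (1800, 0), (952, 0), (1851, 0), (1675, 0), (469, 1), (1323, 0), (178, 1), (1073, 0), (711,
  0), (383, 0), (1000, 1), (1028, 0), (698, 1), (1901, 0), (1227, 0), (582, 1), (1506, 0),
  (1647, 1), (879, 0), (1862, 1), (831, 0), (424, 0), (1935, 1), (1880, 0), (1304, 1), (1487,
  0), (1991, 0), (1198, 0), (467, 1), (528, 0), (377, 0), (459, 1), (958, 0), (729, 1), (1806,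
  0), (1641, 1), (1108, 0), (1155, 1), (1450, 1), (387, 0), (1856, 1), (1731, 0), (627, 1),
  (282, 1), (526, 0), (461, 1), (78, 0), (858, 1), (1508, 0), (1943, 1), (1229, 1), (125, 0),
  (2009, 0), (1278, 0), (2026, 1), (1907, 0), (359, 1), (1853, 0), (573, 1), (1050, 0), (1331,
  0), (1008, 1), (1358, 0), (340, 0), (807, 1), (228, 1), (746, 0), (510, 1), (1626, 0), (1433,
  0), (153, 1), (788, 0), (432, 1), (1065, 0), (909, 1), (576, 0), (663, 1), (1200, 0), (963,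
  0), (1495, 1), (873, 0), (1726, 1), (1677, 1), (297, 1), (1956, 0), (1280, 1), (1776, 1),
  (1127, 0), (215, 1), (1575, 1), (1556, 0), (1405, 0), (676, 0)]

/-- representatives -/
def R1 : List ℕ := [6, 226, 51, 170]

/-- check of an orbit table -/
def orbOk (A C : List ℕ) : List ℕ → List (ℕ × ℕ) → Bool
  | _, [] => true
  | roots, (l, i) :: T => roots.contains (lin (bif Nat.beq i 0 then A else C) l) &&
      orbOk A C (l :: roots) T

theorem orb_sound {A C : List ℕ} (R : ℕ → ℕ → Prop) (htrans : ∀ a b c, R a b → R b c → R a c)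
    (hA : ∀ l, R l (lin A l)) (hC : ∀ l, R l (lin C l)) (T : List (ℕ × ℕ)) :
    ∀ roots : List ℕ, orbOk A C roots T = true → ∀ l i, (l, i) ∈ T → ∃ r ∈ roots, R l r := by
  induction T with
  | nil => intro _ _ l i h; exact absurd h List.not_mem_nil
  | cons p T ih =>
    obtain ⟨l0, i0⟩ := p
    intro roots h l i hl
    unfold orbOk at h
    rw [Bool.and_eq_true, List.contains_iff_mem] at h
    have key : ∃ r ∈ roots, R l0 r := by
      refine ⟨_, h.1, ?_⟩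
      rcases hb : Nat.beq i0 0 with _ | _
      · exact hC l0
      · exact hA l0
    rcases List.mem_cons.1 hl with h1 | h1
    · rw [Prod.mk.injEq] at h1; obtain ⟨rfl, rfl⟩ := h1; exact key
    · obtain ⟨r, hr, h2⟩ := ih _ h.2 l i h1
      rcases List.mem_cons.1 hr with rfl | hr
      · obtain ⟨r', hr', h3⟩ := key
        exact ⟨r', hr', htrans _ _ _ h2 h3⟩
      · exact ⟨r, hr, h2⟩

/-- the check for the element with matrix `K` -/
def chkP (K A C : List ℕ) (R : List ℕ) (T : List (ℕ × ℕ)) : Bool :=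
  orbOk A C R T && (K.all fun a => Nat.blt a 2048) &&
  (List.range 2048).all fun l => Nat.beq l 0 || !(Nat.beq (l ^^^ lin K l ^^^ lin K (lin K l)) 0) ||
    (R ++ T.map fun p => p.1).contains l


private noncomputable def linP (A : List ℕ) : ℕ → ℕ :=
  List.rec (fun _ => 0) (fun a _ ih v => Nat.xor (Nat.mul (Nat.mod v 2) a)
    (Nat.rec (ih 0) (fun k _ => ih (Nat.succ k)) (Nat.div v 2))) A

private theorem linP_eq : lin = linP := by
  funext A
  induction A with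
  | nil => rfl
  | cons a A ih =>
    funext v
    have e : ∀ x : ℕ, (Nat.rec (linP A 0) (fun k _ => linP A (Nat.succ k)) x : ℕ) = linP A x := fun x => by cases x <;> rfl
    have e2 : linP (a :: A) v = (v % 2 * a) ^^^ (Nat.rec (linP A 0) (fun k _ => linP A (Nat.succ k)) (v / 2) : ℕ) := rfl
    rw [e2, e, lin_cons, ih]
    rcases Nat.mod_two_eq_zero_or_one v with h | h
    · rw [h, if_neg (by decide), Nat.zero_mul, Nat.zero_xor]
    · rw [h, if_pos rfl, Nat.one_mul]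

private noncomputable def frP (n : ℕ) (f : ℕ → Bool) : Bool := Nat.rec (f 0) (fun k _ => f (Nat.succ k)) n

private theorem frP_eq (n : ℕ) (f : ℕ → Bool) : frP n f = f n := by cases n <;> rfl

private noncomputable def tbP (m x : ℕ) : Bool := Nat.beq (Nat.land 1 (Nat.shiftRight m x)) 1

private noncomputable def mkP (L : List ℕ) : ℕ := List.rec 0 (fun a _ ih => Nat.lor ih (Nat.shiftLeft 1 a)) L

private theorem mkP_mem (L : List ℕ) (x : ℕ) (h : tbP (mkP L) x = true) : L.contains x = true := by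
  have h1 : 1 &&& (mkP L >>> x) = 1 := Nat.eq_of_beq_eq_true h
  have h2 : (mkP L).testBit x = true := by rw [Nat.testBit, h1]; rfl
  clear h h1
  rw [List.contains_iff_mem]
  induction L with
  | nil => exact absurd ((Nat.zero_testBit x).symm.trans h2) Bool.false_ne_true
  | cons a L ih =>
    rw [show mkP (a :: L) = mkP L ||| 1 <<< a from rfl, Nat.testBit_or, Nat.one_shiftLeft, Nat.testBit_two_pow,
      Bool.or_eq_true] at h2
    rcases h2 with h | h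
    · exact List.mem_cons_of_mem _ (ih h)
    · rw [of_decide_eq_true h]; exact List.mem_cons_self

private noncomputable def orbP (A C : List ℕ) (T : List (ℕ × ℕ)) : ℕ → Bool :=
  List.rec (fun _ => true) (fun p _ ih m => Bool.rec false (frP (Nat.lor m (Nat.shiftLeft 1 p.1)) ih)
    (tbP m (linP (bif Nat.beq p.2 0 then A else C) p.1))) T

private theorem orbP_sound (A C : List ℕ) (T : List (ℕ × ℕ)) : ∀ R : List ℕ, orbP A C T (mkP R) = true → orbOk A C R T = true := by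
  induction T with
  | nil => intro _ _; rfl
  | cons p T ih =>
    obtain ⟨l, i⟩ := p
    intro R h
    have h' : (Bool.rec false (frP (mkP (l :: R)) (orbP A C T)) (tbP (mkP R) (linP (bif Nat.beq i 0 then A else C) l)) : Bool)
      = true := h
    show (R.contains (lin (bif Nat.beq i 0 then A else C) l) && orbOk A C (l :: R) T) = true
    rw [linP_eq]
    cases h1 : tbP (mkP R) (linP (bif Nat.beq i 0 then A else C) l)
    · rw [h1] at h'; exact absurd h' Bool.false_ne_true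
    · rw [h1, frP_eq] at h'
      rw [mkP_mem _ _ h1, ih _ h']; rfl

private noncomputable def ckP (K A C : List ℕ) (R : List ℕ) (T : List (ℕ × ℕ)) : Bool :=
  orbP A C T (mkP R) && (K.all fun a => Nat.blt a 2048) &&
  (List.range 2048).all fun l => Nat.beq l 0 || (frP (linP K l) fun w => !(Nat.beq (Nat.xor (Nat.xor l w) (linP K w)) 0)) ||
    tbP (mkP (R ++ T.map fun p => p.1)) l

private theorem ckP_sound {K A C R : List ℕ} {T : List (ℕ × ℕ)} (h : ckP K A C R T = true) : chkP K A C R T = true := by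
  delta ckP at h
  delta chkP
  rw [Bool.and_eq_true, Bool.and_eq_true] at h ⊢
  refine ⟨⟨orbP_sound _ _ _ _ h.1.1, h.1.2⟩, List.all_eq_true.2 fun l hl => ?_⟩
  have h1 := List.all_eq_true.1 h.2 l hl
  rw [frP_eq, ← linP_eq] at h1
  rw [Bool.or_eq_true] at h1 ⊢
  exact h1.imp id (mkP_mem _ _)

theorem chkP0 : chkP (mat w0) (mat c00) (mat c01) R0 T0 = true := ckP_sound (by decide +kernel)
theorem chkP1 : chkP (mat w1) (mat c10) (mat c11) R1 T1 = true := ckP_sound (by decide +kernel)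

/-- the element `k0` of `M24` of type `1^6 3^6` -/
def k0 : M24 := wordG w0
/-- the element `k1` of `M24` of type `3^8` -/
def k1 : M24 := wordG w1

theorem comm_of_words {a b : List ℕ} (h : Nat.beq (wordP (a ++ b)) (wordP (b ++ a)) = true) :
    wordG a * wordG b = wordG b * wordG a := by
  rw [← M24Norm.wordG_append, ← M24Norm.wordG_append]
  exact M24Norm.wordG_eq (Nat.eq_of_beq_eq_true h)

theorem comm00 : wordG c00 * k0 = k0 * wordG c00 := comm_of_words (by decide +kernel)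
theorem comm01 : wordG c01 * k0 = k0 * wordG c01 := comm_of_words (by decide +kernel)
theorem comm10 : wordG c10 * k1 = k1 * wordG c10 := comm_of_words (by decide +kernel)
theorem comm11 : wordG c11 * k1 = k1 * wordG c11 := comm_of_words (by decide +kernel)

/-- the orbits of the centralizer of `wordG w` in `M24` -/
theorem orbit_aux {w a c R : List ℕ} {T : List (ℕ × ℕ)}
    (ha : wordG a * wordG w = wordG w * wordG a) (hc : wordG c * wordG w = wordG w * wordG c)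
    (h : chkP (mat w) (mat a) (mat c) R T = true) {l : ℕ} (hl : l < 2048) (hl0 : l ≠ 0)
    (hk : l ^^^ lin (mat w) l ^^^ lin (mat w) (lin (mat w) l) = 0) :
    ∃ r ∈ R, ∃ m : M24, m * wordG w = wordG w * m ∧ phi m * V l * (phi m)⁻¹ = V r := by
  unfold chkP at h
  rw [Bool.and_eq_true, Bool.and_eq_true] at h
  have h1 := List.all_eq_true.1 h.2 l (List.mem_range.2 hl)
  rw [Bool.or_eq_true, Bool.or_eq_true, hk] at h1
  have h2 : (R ++ T.map fun p => p.1).contains l = true := by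
    rcases h1 with (h1 | h1) | h1
    · exact absurd (Nat.eq_of_beq_eq_true h1) hl0
    · exact absurd h1 (by decide)
    · exact h1
  rw [List.contains_iff_mem, List.mem_append] at h2
  rcases h2 with h2 | h2
  · exact ⟨l, h2, 1, by rw [one_mul, mul_one], by rw [map_one, one_mul, inv_one, mul_one]⟩
  · obtain ⟨p, hp, rfl⟩ := List.mem_map.1 h2
    have hstep : ∀ b : List ℕ, wordG b * wordG w = wordG w * wordG b → ∀ l,
        ∃ m : M24, m * wordG w = wordG w * m ∧ phi m * V l * (phi m)⁻¹ = V (lin (mat b) l) :=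
      fun b hb l => ⟨wordG b, hb, conj_V (isMat_word b) l⟩
    exact orb_sound (fun l r => ∃ m : M24, m * wordG w = wordG w * m ∧
      phi m * V l * (phi m)⁻¹ = V r)
      (fun x y z => by
        rintro ⟨m, hm, h3⟩ ⟨m', hm', h4⟩
        refine ⟨m' * m, ?_, ?_⟩
        · rw [mul_assoc, hm, ← mul_assoc, hm', mul_assoc]
        · rw [map_mul, ← h4, ← h3]; group)
      (hstep a ha) (hstep c hc) T R h.1.1 p.1 p.2 hp

/-- elements of order 3 of the normalizer of `2^11` -/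
theorem order3_N {y : 𝒢} (hyN : y ∈ Subgroup.normalizer (EJ : Set 𝒢)) (h3 : y * y * y = 1)
    (h1 : y ≠ 1) : ∃ g ∈ Subgroup.normalizer (EJ : Set 𝒢), g * y * g⁻¹ = phi k0 ∨
      g * y * g⁻¹ = phi k1 := by
  rw [Cfsg.Agent.H860.JM.NEJ_eq] at hyN
  obtain ⟨e, he, m, rfl⟩ := mem_B.1 hyN
  have he2 : e * e = 1 := Cfsg.Agent.H860.JM.EJ_sq he
  have hcj : ∀ m : M24, phi m * e * (phi m)⁻¹ ∈ EJ := fun m =>
    (Subgroup.mem_normalizer_iff.1 (phi_norm ⟨m, rfl⟩) e).1 he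
  have e1 : e * phi m * (e * phi m) * (e * phi m) = e * (phi m * e * (phi m)⁻¹) *
      (phi (m * m) * e * (phi (m * m))⁻¹) * phi (m * m * m) := by
    simp only [map_mul]; group
  have h5 : phi (m * m * m) ∈ EJ := by
    have h4 : phi (m * m * m) = (e * (phi m * e * (phi m)⁻¹) *
      (phi (m * m) * e * (phi (m * m))⁻¹))⁻¹ := by
      rw [eq_inv_iff_mul_eq_one, ← Subgroup.mem_bot]
      have h6 := h3
      rw [e1] at h6
      rw [Subgroup.mem_bot]
      exact mul_eq_one_comm.1 h6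
    rw [h4]
    exact EJ.inv_mem (EJ.mul_mem (EJ.mul_mem he (hcj _)) (hcj _))
  have h6 : phi (m * m * m) = 1 := inf_eq_one _ h5 ⟨_, rfl⟩
  have h7 : m * m * m = 1 := phi_injective (by rw [h6, map_one])
  have hm1 : m ≠ 1 := by
    rintro rfl
    rw [map_one, mul_one] at h3 h1
    rw [he2, one_mul] at h3
    exact h1 h3
  rw [e1, h6, mul_one] at h3
  obtain ⟨g, hg⟩ := order3 m hm1 h7
  set f := phi m * e * (phi m)⁻¹ with hf
  set f2 := phi (m * m) * e * (phi (m * m))⁻¹ with hf2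
  have hfe : f * e = f2 := by
    have h8 : f2 * f2 = 1 := Cfsg.Agent.H860.JM.EJ_sq (hcj _)
    have h9 : f * e = e * f := Cfsg.Agent.H860.JM.EJ_comm (hcj _) he
    rw [h9, ← mul_one (e * f), ← h8, ← mul_assoc, h3, one_mul]
  have key : f * (e * phi m) * f⁻¹ = phi m := by
    have h10 : phi m * f⁻¹ = f2⁻¹ * phi m := by
      rw [hf, hf2, map_mul]
      simp only [mul_inv_rev, inv_inv, mul_assoc, inv_mul_cancel, mul_one]
    calc f * (e * phi m) * f⁻¹ = f * e * (phi m * f⁻¹) := by group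
      _ = phi m := by rw [h10, hfe, mul_inv_cancel_left]
  refine ⟨phi g * f, Subgroup.mul_mem _ (phi_norm ⟨g, rfl⟩)
    (Subgroup.le_normalizer (hcj _)), ?_⟩
  have h11 : phi g * f * (e * phi m) * (phi g * f)⁻¹ = phi (g * m * g⁻¹) := by
    calc phi g * f * (e * phi m) * (phi g * f)⁻¹
        = phi g * (f * (e * phi m) * f⁻¹) * (phi g)⁻¹ := by group
      _ = phi (g * m * g⁻¹) := by rw [key, map_mul, map_mul, map_inv]
  rw [h11]
  rcases hg with hg | hg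
  · left; rw [hg]; rfl
  · right; rw [hg]; rfl

theorem lt_of_all {K : List ℕ} (h : (K.all fun a => Nat.blt a 2048) = true) : ∀ a ∈ K, a < 2048 :=
  fun a ha => Nat.blt_eq.mp (List.all_eq_true.1 h a ha)

theorem caseP_aux {w a c R : List ℕ} {T : List (ℕ × ℕ)}
    (ha : wordG a * wordG w = wordG w * wordG a) (hc : wordG c * wordG w = wordG w * wordG c)
    (h : chkP (mat w) (mat a) (mat c) R T = true) {v : 𝒢} (hv : v ∈ EJ) (hv1 : v ≠ 1)
    (h3 : phi (wordG w) * phi (wordG w) * phi (wordG w) = 1)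
    (hvy : v * phi (wordG w) * (v * phi (wordG w)) * (v * phi (wordG w)) = 1) :
    ∃ g, g * phi (wordG w) * g⁻¹ = phi (wordG w) ∧ ∃ r ∈ R, g * v * g⁻¹ = V r := by
  obtain ⟨l, hl, rfl⟩ := mem_EJ.1 hv
  have hlt : ∀ a ∈ mat w, a < 2048 := by
    unfold chkP at h
    rw [Bool.and_eq_true, Bool.and_eq_true] at h
    exact lt_of_all h.1.2
  have e1 : V l * phi (wordG w) * (V l * phi (wordG w)) * (V l * phi (wordG w)) =
      V l * (phi (wordG w) * V l * (phi (wordG w))⁻¹) *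
      (phi (wordG w) * (phi (wordG w) * V l * (phi (wordG w))⁻¹) * (phi (wordG w))⁻¹) *
      (phi (wordG w) * phi (wordG w) * phi (wordG w)) := by group
  rw [e1, h3, mul_one, conj_V (isMat_word w), conj_V (isMat_word w), ← V_xor, ← V_xor] at hvy
  have hl0 : l ≠ 0 := by rintro rfl; exact hv1 V_zero
  have hk : l ^^^ lin (mat w) l ^^^ lin (mat w) (lin (mat w) l) = 0 := by
    refine V_inj ?_ (by norm_num) (by rw [hvy, V_zero])
    exact Nat.xor_lt_two_pow (n := 11) (Nat.xor_lt_two_pow (n := 11) hl (lin_lt hlt _))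
      (lin_lt hlt _)
  obtain ⟨r, hr, m, hm, h5⟩ := orbit_aux ha hc h hl hl0 hk
  refine ⟨phi m, ?_, r, hr, h5⟩
  rw [mul_inv_eq_iff_eq_mul, ← map_mul, ← map_mul, hm]

/-- **the A4-subgroups `⟨v, y⟩` with `v ∈ 2^11` and `y` in the normalizer of `2^11`** -/
theorem caseP0 {v y : 𝒢} (hv : v ∈ EJ) (hv1 : v ≠ 1)
    (hyN : y ∈ Subgroup.normalizer (EJ : Set 𝒢)) (h3 : y * y * y = 1) (h1 : y ≠ 1)
    (hvy : v * y * (v * y) * (v * y) = 1) :
    ∃ g, (g * y * g⁻¹ = phi k0 ∧ ∃ r ∈ R0, g * v * g⁻¹ = V r) ∨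
      (g * y * g⁻¹ = phi k1 ∧ ∃ r ∈ R1, g * v * g⁻¹ = V r) := by
  obtain ⟨g, hg, h⟩ := order3_N hyN h3 h1
  have hv' : g * v * g⁻¹ ∈ EJ := (Subgroup.mem_normalizer_iff.1 hg v).1 hv
  have hv1' : g * v * g⁻¹ ≠ 1 := fun e => hv1 (conj_eq_one_iff.1 e)
  have e3 : g * y * g⁻¹ * (g * y * g⁻¹) * (g * y * g⁻¹) = 1 := by
    have : g * y * g⁻¹ * (g * y * g⁻¹) * (g * y * g⁻¹) = g * (y * y * y) * g⁻¹ := by group
    rw [this, h3]; group
  have e4 : g * v * g⁻¹ * (g * y * g⁻¹) * (g * v * g⁻¹ * (g * y * g⁻¹)) *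
      (g * v * g⁻¹ * (g * y * g⁻¹)) = 1 := by
    have : g * v * g⁻¹ * (g * y * g⁻¹) * (g * v * g⁻¹ * (g * y * g⁻¹)) *
      (g * v * g⁻¹ * (g * y * g⁻¹)) = g * (v * y * (v * y) * (v * y)) * g⁻¹ := by group
    rw [this, hvy]; group
  rcases h with h | h
  · rw [h] at e3 e4
    obtain ⟨g', h5, r, hr, h6⟩ := caseP_aux comm00 comm01 chkP0 hv' hv1' e3 e4
    refine ⟨g' * g, Or.inl ⟨?_, r, hr, ?_⟩⟩
    · have : g' * g * y * (g' * g)⁻¹ = g' * (g * y * g⁻¹) * g'⁻¹ := by group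
      rw [this, h]; exact h5
    · rw [← h6]; group
  · rw [h] at e3 e4
    obtain ⟨g', h5, r, hr, h6⟩ := caseP_aux comm10 comm11 chkP1 hv' hv1' e3 e4
    refine ⟨g' * g, Or.inr ⟨?_, r, hr, ?_⟩⟩
    · have : g' * g * y * (g' * g)⁻¹ = g' * (g * y * g⁻¹) * g'⁻¹ := by group
      rw [this, h]; exact h5
    · rw [← h6]; group

end Cfsg.Agent.H761.JM
end

private theorem dce_2b5195abe1f1 : _root_.True := by
  try have : _root_.True := by simp only [_root_.Cfsg.Agent.H761.JM.orbOk.eq_def]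
  exact _root_.True.intro
end

-- part: H878/JM/E2
section
set_option linter.all false
open scoped Cfsg.Agent.FastGrp

-- part: H878/JM/E2Data
section
/-!
# S5580, Part III, engine (P): the connecting words

The environment `LP` (newest first): six elements `h8, h7, h5, h3, h2, h1` (0–5), `phi k1, phi k0` (6, 7), then `LJ`.
`h_i * y0 = phi k_j * h_i` and `h_i * v_i = V r * h_i`.
-/

set_option autoImplicit false

open Cfsg

namespace Cfsg.Agent.H878.JM.E2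

open Cfsg.Agent.Lib Cfsg.Agent.Lib.F2MatGroup
open Cfsg.Agent.J4.Rep112 Cfsg.Agent.J4.LowerData
open Cfsg.Agent.H858.VK Cfsg.Agent.H878.JM.Base

/-- further program -/
def slpP : List (List ℕ) := [
  [32, 34, 32, 34, 32, 33, 32, 34, 32, 33, 32, 34, 32, 33, 32, 33, 32, 34, 32, 34, 32, 34, 32, 33, 32, 33, 32, 33, 32, 34, 32, 34, 32, 34, 32, 34, 32, 33, 32, 33, 32, 34, 32, 34, 32, 34, 32, 33, 32, 34],
  [33, 35, 33, 34, 33, 35, 33, 34, 33, 35, 33, 34, 33, 35, 33, 34],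
  [22, 25, 26, 28, 30, 34, 35, 34, 36, 34, 36, 34, 35, 34, 36, 34, 35, 34, 36, 34, 35, 34, 35, 34, 35, 34, 36, 34, 36, 34, 36, 34, 35, 34, 35, 34, 36, 34, 35, 34, 35, 34, 35, 34, 35, 34, 35, 34, 35, 34, 35, 34, 35, 34, 35, 34, 36],
  [22, 23, 24, 25, 27, 29, 31, 35, 37, 35, 37, 35, 36, 35, 37, 35, 36, 35, 37, 35, 36, 35, 36, 35, 36, 35, 37, 35, 37, 35, 37, 35, 36, 35, 36, 35, 37, 35, 36, 35, 36, 35, 36, 35, 36, 35, 36, 35, 36, 35, 36, 35, 36, 35, 36, 35, 37, 35, 36],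
  [24, 36, 38, 36, 37, 39, 24, 25, 26, 27, 28, 30, 32, 38, 36, 38, 36, 38, 36, 37, 36, 38, 36, 38, 36, 38, 36, 37, 36, 37, 36, 38, 36, 38, 36, 38, 36, 37, 39, 37, 36, 38, 36, 38, 36, 37, 36, 37, 36, 37, 36, 38, 36, 37, 36, 23, 39, 38, 36, 38, 36, 37],
  [25, 37, 38, 37, 39, 37, 39, 37, 38, 37, 38, 37, 39, 37, 38, 37, 38, 40, 24, 26, 27, 28, 31, 34, 38, 37, 39, 37, 38, 37, 38, 37, 38, 37, 38, 37, 38, 37, 38, 37, 39, 37, 38, 37, 39, 37, 38, 37, 38, 37, 38, 37, 38, 37, 39, 37, 38, 37, 38, 37, 38, 37, 38, 37, 39, 37, 38, 37, 39, 37, 38, 37, 38, 37, 39, 40, 38, 37, 39, 40, 38, 37, 39, 37, 38, 25],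
  [25, 38, 40, 38, 39, 41, 26, 27, 30, 31, 33, 34, 38, 40, 38, 39, 38, 39, 38, 39, 38, 40, 38, 39, 38, 39, 38, 40, 38, 39, 38, 39, 38, 39, 38, 40, 38, 39, 38, 39, 38, 40, 38, 39, 41, 39, 38, 39, 38, 40, 38, 28, 41, 40, 38, 39, 38, 39, 38, 39, 38, 40, 38, 39, 38, 26],
  [27, 42, 28, 29, 32, 33, 34, 39, 41, 39, 41, 39, 41, 39, 41, 39, 40, 39, 40, 39, 41, 39, 41, 39, 40, 39, 41, 39, 40, 39, 40, 39, 40, 39, 41, 39, 40, 39, 41, 39, 40, 39, 40, 39, 41, 39, 41, 39, 41, 39, 41, 39, 41, 39, 40, 39, 41, 42, 41, 39, 41, 39, 40, 39, 40, 39, 40, 39, 40, 39, 41, 39, 40, 39, 40, 39, 40, 39, 40, 26, 42, 40, 39, 41, 39, 40, 39, 40]]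

/-- equations -/
def esP : List (List ℕ × List ℕ) := [
  ([5, 26], [7, 5]),
  ([5, 16], [29, 30, 33, 34, 35, 36, 5]),
  ([4, 26], [7, 4]),
  ([4, 15], [27, 29, 30, 31, 32, 33, 36, 37, 4]),
  ([3, 26], [6, 3]),
  ([3, 14], [27, 28, 31, 32, 3]),
  ([2, 26], [6, 2]),
  ([2, 12], [28, 30, 32, 34, 2]),
  ([1, 26], [6, 1]),
  ([1, 10], [28, 29, 1]),
  ([0, 26], [6, 0]),
  ([0, 9], [28, 32, 33, 34, 0])]

theorem checkP : run 112 (slpJ ++ slpP) codes (fun L => eqs 112 esP L) = true := by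
  rw [Lib.F112.run_eq, Lib.F112.eqs_eq]
  decide +kernel

end Cfsg.Agent.H878.JM.E2
end

-- part: H265/JM/EQData
section
/-!
# S5580, Part III, engine (Q): data (helper265)

Subgroups `A₄ = ⟨v, y⟩` of `J4` with all involutions in class 2B whose four-group is not contained in a point.
The environment `LE` is `LJ` (see `H878.JM.Base`) with 20 further elements in front: see the definitions below.
-/

set_option autoImplicit false

open Cfsg

namespace Cfsg.Agent.H265.JM.EQ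

open Cfsg.Agent.Lib Cfsg.Agent.Lib.F2MatGroup
open Cfsg.Agent.J4.Rep112 Cfsg.Agent.J4.LowerData
open Cfsg.Agent.H858.VK Cfsg.Agent.H878.JM.Base

/-- further program -/
def slpE : List (List ℕ) := [
  [32, 33, 32, 33, 32, 33, 32, 34, 32, 33, 32, 33, 32, 33, 32, 34, 32, 33, 32, 33, 32, 33, 32, 34, 32, 33, 32, 33, 32, 33, 32, 34],
  [36, 34, 6, 35, 36, 20, 22],
  [22, 25, 35, 34, 35, 34, 35, 34, 35, 34, 35, 34, 36, 34, 36, 34, 36, 34, 35, 34, 35, 34, 36, 0, 0, 0, 0, 0, 37, 35],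
  [37, 38, 1, 1, 1, 1, 1, 1, 36, 35, 37, 35, 37, 35, 36, 35, 36, 35, 36, 35, 37, 35, 37, 35, 37, 35, 37, 35, 37, 23, 26],
  [1, 22, 0],
  [38, 40, 39, 40, 38, 37, 8, 37, 39, 40, 38, 40, 39, 24, 26],
  [25, 26, 29, 40, 38, 40, 38, 40, 38, 40, 38, 40, 38, 40, 38, 40, 38, 39, 38, 39, 38, 39, 38, 0, 0, 39, 41, 40, 41, 39, 38],
  [39, 41, 42, 40, 42, 41, 1, 1, 1, 39, 41, 39, 41, 39, 41, 39, 40, 39, 40, 39, 40, 39, 40, 39, 40, 39, 40, 39, 40, 26, 27, 30],
  [1, 26, 0],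
  [43, 44, 9, 44, 42, 28, 30],
  [29, 30, 31, 33, 43, 42, 44, 42, 43, 42, 44, 42, 43, 42, 43, 42, 44, 42, 44, 42, 43, 42, 44, 42, 44, 42, 44, 42, 44, 42, 43, 42, 44, 42, 43, 42, 43, 42, 44, 42, 43, 42, 43, 42, 43, 42, 44, 42, 43, 42, 44, 42, 44, 42, 44, 42, 43, 42, 0, 0, 44, 45],
  [46, 44, 1, 1, 1, 43, 45, 43, 44, 43, 44, 43, 44, 43, 45, 43, 44, 43, 45, 43, 45, 43, 45, 43, 44, 43, 45, 43, 45, 43, 44, 43, 45, 43, 44, 43, 44, 43, 44, 43, 44, 43, 45, 43, 44, 43, 44, 43, 45, 43, 45, 43, 44, 43, 45, 43, 44, 43, 45, 30, 31, 32, 34],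
  [1, 30, 0],
  [32, 33, 35, 36, 45, 47, 45, 46, 45, 46, 45, 46, 45, 47, 45, 47, 45, 47, 45, 46, 45, 46, 45, 46, 45, 47, 45, 47, 45, 46, 45, 47, 45, 47, 45, 47, 45, 47, 45, 47, 45, 46, 45, 47, 45, 46, 45, 47, 45, 47, 45, 46],
  [39, 47, 46, 48, 46, 47, 46, 47, 46, 47, 46, 48, 46, 47, 46, 48, 46, 47, 46, 48, 46, 48, 46, 47, 46, 48, 46, 47, 46, 48, 46, 47, 46, 47, 46, 47, 46, 47],
  [36, 39, 40, 42, 49, 47, 48, 47, 48, 47, 49, 47, 48, 47, 49, 47, 49, 47, 49, 47, 48, 47, 48, 47, 49, 47, 48, 47, 49, 47, 48, 47, 48, 47, 49, 47, 49, 47, 48, 47, 49, 47, 48, 47, 48],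
  [48, 49, 51, 15, 51, 50, 48, 45],
  [0, 0, 49, 50, 52],
  [53, 50, 52, 37, 39, 50, 51, 50, 53, 47],
  [0, 0, 54, 51, 53]]

/-- equations -/
def esE : List (List ℕ × List ℕ) := [
  ([17, 25], [39, 40, 42, 43, 44, 49, 17]),
  ([17, 38, 25], [43, 44, 48, 49, 19, 17, 38]),
  ([13, 23], [39, 43, 44, 46, 47, 13]),
  ([13, 38, 23], [39, 41, 48, 19, 13, 38]),
  ([9, 20], [39, 43, 44, 46, 47, 9]),
  ([9, 38, 20], [39, 41, 48, 19, 9, 38]),
  ([17, 16], []),
  ([15], [17, 38, 16]),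
  ([13, 12], []),
  ([11], [13, 38, 12]),
  ([9, 8], []),
  ([7], [9, 38, 8]),
  ([6, 6, 6], []),
  ([6, 39, 43, 44, 46, 47], [39, 43, 44, 46, 47, 6]),
  ([6, 39, 41, 48, 19], [39, 41, 48, 19, 6]),
  ([6, 11], [11, 6]),
  ([5, 11, 6], [7, 5]),
  ([4, 11, 6, 6], [7, 4]),
  ([5, 39, 43, 44, 46, 47], [39, 43, 44, 46, 47, 5]),
  ([5, 39, 41, 48, 19], [39, 41, 48, 19, 5]),
  ([4, 39, 43, 44, 46, 47], [39, 43, 44, 46, 47, 4]),
  ([4, 39, 41, 48, 19], [39, 41, 48, 19, 4]),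
  ([2, 19], [49, 2]),
  ([0, 39, 41, 52], [49, 0])]

theorem checkE : run 112 (slpJ ++ slpE) codes (fun L => cond (eqs 112 esE L) (neqs 112 [([6], [])] L) false) = true := by
  rw [Lib.F112.run_eq, Lib.F112.eqs_eq, Lib.F112.neqs_eq]
  decide +kernel

/-- word of `el P1` -/
def wS : List ℕ := [0, 1, 0, 1, 0, 1, 0, 2, 0, 1, 0, 1, 0, 1, 0, 2, 0, 1, 0, 1, 0, 1, 0, 2, 0, 1, 0, 1, 0, 1, 0, 2]
/-- elements of `M24` commuting with `el P1` -/
def ga : List ℕ := [1, 0, 1, 0, 1, 0, 1, 0, 2, 0, 2, 0, 2, 0, 2, 0, 1, 0, 2, 0, 2, 0, 1, 0, 1, 0, 1, 0, 1]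
def gb : List ℕ := [0, 1, 0, 1, 0, 1, 0, 2]
/-- an element of order 3 commuting with `el P1` -/
def gm : List ℕ := [0, 2, 0, 1, 0, 1, 0, 2, 0, 1, 0, 1, 0, 1, 0, 2, 0, 2, 0, 1, 0, 2, 0, 2, 0, 1, 0]

/-- their matrices -/
def Ma : List ℕ := [233, 2025, 852, 1474, 548, 1314, 749, 811, 1226, 1099, 1361]
def Mb : List ℕ := [190, 655, 873, 32, 165, 1435, 1247, 1190, 46, 327, 585]
def Mm : List ℕ := [11, 1390, 1316, 68, 1841, 42, 1628, 1827, 243, 504, 211]

/-- `(pivot, v, e)`, `e = v + P1 v` -/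
def bas : List (ℕ × ℕ × ℕ) := [(7, 1, 183), (3, 3, 14), (6, 6, 119), (8, 17, 262)]

/-- the labels of the duads -/
def duads : List ℕ := [5, 14, 15, 17, 26, 27, 33, 40, 47, 61, 66, 70, 73, 75, 89, 90, 97, 110, 121, 124, 130, 131, 143, 149, 166, 169, 171, 183, 184, 191, 192, 200, 217, 219, 224, 226, 230, 237, 241, 253, 264, 270, 275, 279, 280, 287, 288, 290, 307, 315, 321, 325, 334, 337, 341, 346, 357, 376, 377, 383, 403, 405, 406, 410, 416, 419, 423, 424, 433, 440, 453, 454, 459, 467, 482, 484, 488, 494, 495, 496, 499, 505, 506, 507, 513, 522, 528, 539, 551, 552, 582, 586, 589, 592, 622, 624, 653, 654, 662, 667, 670, 671, 679, 680, 689, 690, 692, 698, 701, 703, 707, 709, 713, 717, 719, 723, 737, 738, 745, 763, 774, 781, 783, 789, 802, 808, 812, 818, 821, 831, 870, 879, 890, 893, 894, 895, 896, 926, 938, 944, 950, 957, 983, 984, 1000, 1001, 1010, 1011, 1028, 1034, 1045, 1051, 1063, 1067, 1082, 1083,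 1084, 1086, 1089, 1095, 1103, 1112, 1120, 1150, 1154, 1165, 1186, 1187, 1195, 1196, 1197, 1198, 1201, 1204, 1217, 1218, 1224, 1227, 1228, 1234, 1251, 1252, 1258, 1276, 1284, 1287, 1290, 1304, 1317, 1319, 1327, 1335, 1337, 1341, 1382, 1385, 1412, 1434, 1448, 1461, 1463, 1467, 1475, 1483, 1486, 1487, 1496, 1502, 1506, 1516, 1527, 1529, 1537, 1541, 1547, 1553, 1555, 1557, 1558, 1561, 1564, 1567, 1576, 1577, 1578, 1584, 1616, 1621, 1632, 1647, 1656, 1661, 1666, 1668, 1674, 1687, 1697, 1700, 1701, 1712, 1713, 1717, 1737, 1742, 1749, 1752, 1787, 1790, 1793, 1796, 1825, 1830, 1847, 1850, 1857, 1859, 1862, 1877, 1880, 1885, 1901, 1908, 1912, 1914, 1920, 1923, 1926, 1935, 1979, 1982, 1990, 1991, 1998, 2004, 2030, 2042]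

/-- the labels of the duads fixed by `el P1` -/
def fd : List ℕ := [14, 121, 149, 183, 192, 226, 264, 383, 403, 433, 454, 484, 551, 592, 670, 690, 709, 745, 781, 890, 1083, 1120, 1154, 1198, 1341, 1382, 1412, 1448, 1564, 1584, 1701, 1790, 1857, 1901, 1935, 2004]

/-- first orbit -/
def oI : List (ℕ × ℕ × ℕ) := [(454, 34, 0), (454, 1047, 1), (192, 1077, 0), (14, 1554, 1), (192, 1554, 0), (14, 1077, 1), (121, 551, 0), (183, 551, 1), (433, 1584, 0), (264, 34, 1), (121, 1584, 0), (183, 34, 1), (433, 551, 0), (264, 551, 1), (183, 1047, 0), (192, 517, 1), (383, 1047, 0), (383, 517, 1), (454, 517, 0), (454, 1584, 1), (264, 1077, 0), (433, 1554, 1), (183, 517, 0), (192, 1584, 1), (383, 1077, 0), (383, 1554, 1), (264, 1047, 0), (121, 34, 0), (121, 1077, 1), (14, 34, 0), (121, 1047, 1), (192, 34, 0), (14, 1047, 1), (14, 1584, 1), (383, 34, 0), (121, 517, 0), (183, 1584, 1), (14, 551, 0), (264, 1554, 0), (433,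 1077, 1), (183, 1077, 0), (192, 551, 1), (183, 1554, 0), (264, 1584, 1), (121, 1554, 1), (192, 1047, 1), (383, 1584, 1), (433, 1047, 0), (264, 517, 1), (433, 34, 1), (454, 551, 0), (383, 551, 0), (14, 517, 0), (454, 1554, 0), (454, 1077, 1)]

/-- second orbit -/
def oT : List (ℕ × ℕ × ℕ) := [(670, 517, 0), (745, 1584, 1), (1120, 34, 0), (781, 1047, 1), (1382, 517, 0), (709, 1584, 1), (1901, 1077, 0), (1154, 1554, 1), (226, 1554, 0), (1120, 1077, 1), (2004, 34, 0), (1083, 1047, 1), (403, 517, 0), (1382, 1584, 1), (1935, 551, 0), (226, 551, 1), (592, 1584, 0), (670, 34, 1), (1341, 1584, 0), (1564, 34, 1), (1901, 551, 0), (1154, 551, 1), (1857, 1077, 0), (149, 1554, 1), (670, 1554, 0), (745, 1077, 1), (1154, 34, 0), (1901, 1047, 1), (2004, 517, 0), (690, 1047, 0), (1790, 517, 1), (1341, 1047, 0), (1564, 517, 1), (1448, 517, 0), (690, 1584, 1), (781, 1554, 1), (551, 517, 0), (1584, 1077, 0), (403, 1554,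 1), (1935, 1047, 0), (226, 517, 1), (592, 1047, 0), (890, 551, 0), (1857, 551, 1), (1120, 1584, 0), (781, 34, 1), (1382, 551, 0), (709, 551, 1), (592, 1077, 0), (1935, 1554, 0), (226, 1077, 1), (1857, 34, 0), (149, 1047, 1), (1198, 1077, 1), (551, 1554, 0), (1584, 34, 0), (403, 1047, 1), (1412, 1047, 1), (149, 517, 0), (1198, 1584, 1), (226, 1584, 0), (1198, 34, 0), (890, 1047, 1), (1584, 551, 1), (1154, 1584, 0), (1901, 34, 1), (690, 1554, 0), (1790, 1077, 1), (1341, 34, 0), (1564, 1047, 1), (1448, 1554, 0), (690, 1077, 1), (484, 1047, 0), (1857, 517, 1), (1901, 517, 0), (1120, 1554, 1), (2004, 1047, 0), (1083, 517, 1), (1448, 551, 0), (690, 551, 1), (1790, 34, 1), (1341, 551, 0), (1564, 551, 1), (890, 1077, 0), (1857, 1554, 1), (1083, 1554, 0), (2004, 1077, 1), (1701, 551, 0), (890, 34, 1), (709, 1077, 0), (1584, 1554, 1), (745, 1554, 0), (551, 1077, 1), (1083, 34, 0), (1701, 517, 0), (1341, 517,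 0), (1564, 1584, 1), (1701, 1077, 0), (1341, 1554, 1), (484, 1554, 0), (1448, 1077, 1), (709, 1047, 0), (1584, 517, 1), (592, 517, 0), (670, 1584, 1), (1935, 1077, 0), (149, 1584, 0), (781, 551, 0), (592, 1554, 1), (403, 1077, 1), (1412, 34, 1), (149, 551, 0), (1198, 551, 1), (1412, 1554, 0), (1857, 1047, 1), (1935, 34, 0), (226, 1047, 1), (1901, 1584, 0), (149, 1077, 1), (745, 1047, 1), (1412, 517, 1), (1198, 517, 1), (781, 1077, 0), (551, 1047, 0), (1584, 1047, 0), (484, 551, 0), (890, 1584, 0), (745, 34, 1), (1790, 1047, 0), (484, 517, 1), (484, 1077, 0), (403, 551, 0), (709, 34, 1), (670, 1077, 0), (551, 34, 0), (403, 1584, 1), (1790, 551, 0), (551, 1584, 0), (592, 34, 1), (1412, 1584, 0), (1701, 34, 1), (1412, 551, 1), (1382, 1077, 1), (1448, 34, 0), (1120, 517, 0), (781, 1584, 1), (2004, 1584, 1), (1448, 1584, 0), (690, 34, 1), (1701, 1047, 0), (890, 1554, 0), (1790, 1554, 1), (1564, 1077, 1),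 (1935, 517, 0), (1083, 551, 0), (2004, 551, 1), (1382, 1554, 0), (1120, 551, 1), (1198, 1554, 0), (709, 1554, 0), (1154, 1047, 0), (1154, 517, 0), (745, 517, 0), (484, 1584, 0), (670, 1047, 0), (1701, 1584, 0), (1382, 34, 1)]

end Cfsg.Agent.H265.JM.EQ
end

-- part: H265/JM/EQOrb
section
/-!
# S5580, Part III, engine (Q): pairs of commuting 2B elements (helper265)

`pair_cases` : `t₁ ∈ V`, `t₂ ∈ N(V) ∖ V` commuting, `t₁, t₂, t₁t₂` of class 2B: the pair `(t₁, t₂)` is conjugate to one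
of two explicit pairs.
-/

set_option autoImplicit false
set_option maxRecDepth 20000

open Cfsg

namespace Cfsg.Agent.H265.JM.EQ

open Cfsg.Agent.Lib Cfsg.Agent.Lib.F2MatGroup
open Cfsg.Agent.J4.Rep112 Cfsg.Agent.J4.LowerData Cfsg.Agent.J4.Beta
open Cfsg.Agent.J4.Classes Cfsg.Agent.J4.ClassesData Cfsg.Agent.J4.ClassesAbs
open Cfsg.Agent.H858.VK Cfsg.Agent.H878.JM.Base Cfsg.Agent.H858.Data Cfsg.Agent.H858
open Cfsg.Agent.J4.Pres Cfsg.Agent.J4.M24Hom Cfsg.Agent.J4.Lower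
open Cfsg.Agent.J4.Nodes (wordG wordP letG)
open Cfsg.Agent.H858.Pent (lin_xor lin_zero)
open Cfsg.Agent.J4.M24InvolData Cfsg.Agent.SporadicStructure.M24El
open Cfsg.Agent.J4.Invol (EJ s d)
open Cfsg.Agent.H860.JM

local notation "𝒢" => Cfsg.Spor.J4

/-- the environment -/
noncomputable def LE : List 𝒢 := runG slpE LJ

theorem map_LE : LE.map rho = runG (slpJ ++ slpE) mgens := by
  unfold LE LJ mgens
  rw [runG_append, runG_map, runG_map]

theorem soundE : (∀ p ∈ esE, evG LE p.1 = evG LE p.2) ∧ getG LE 6 ≠ 1 := by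
  obtain ⟨L', h', hk⟩ := run_sound codes_gens checkE
  have h'' : List.Forall₂ (Codes 112) (LE.map rho) L' := by rw [map_LE]; exact h'
  rcases hb : eqs 112 esE L' with _ | _
  · rw [hb] at hk; exact absurd hk Bool.false_ne_true
  · rw [hb] at hk
    have hc : neqs 112 [([6], [])] L' = true := hk
    constructor
    · intro p hp
      apply Cfsg.Agent.H858.VK.rho_injective
      rw [← evG_map, ← evG_map]
      exact eqs_sound h'' hb p hp
    · intro h0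
      apply neqs_sound (by norm_num) h'' hc ([6], []) (by simp)
      rw [evG_map, evG_map]
      rw [evG_cons, evG_nil, h0, mul_one]

theorem eqE {a b : List ℕ} (h : (a, b) ∈ esE) : evG LE a = evG LE b := soundE.1 _ h

theorem slpE_length : slpE.length = 20 := by decide
theorem slpA_length : slpA.length = 19 := by decide

theorem getG_LE (i : ℕ) : getG LE (20 + i) = getG LJ i := by
  have h := getG_runG slpE LJ i
  rwa [slpE_length] at h

theorem getG_LJ {i : ℕ} (hi : i < 11) : getG LJ (19 + i) = lJ.getD i 1 := by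
  have e : LJ = runG slpA (runG slpQ gens) := by
    unfold LJ slpJ
    rw [runG_append]
  have h := getG_runG slpA (runG slpQ gens) i
  rw [slpA_length, ← e] at h
  exact h.trans (getG_take _ 11 i hi)

theorem getG_LE' {i : ℕ} (hi : i < 11) : getG LE (39 + i) = lJ.getD i 1 := by
  rw [show 39 + i = 20 + (19 + i) by ring, getG_LE, getG_LJ hi]

/-- word of a vector -/
abbrev be (v : ℕ) : List ℕ := bw 11 39 v

theorem evG_be (v : ℕ) : evG LE (be v) = V v := by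
  have h := evG_bw LE lJ 39 v (by rw [lJ_length]; exact fun i hi => getG_LE' hi)
  rwa [lJ_length] at h

theorem x_eq : getG LE 52 = x := rfl
/-! ### words in `M24` -/

theorem wordG_ev {w : List ℕ} (hw : ∀ i ∈ w, i < 3) : wordG w = evG [XM, YM, YM⁻¹] w := by
  induction w with
  | nil => rfl
  | cons i w ih =>
    rw [evG_cons, ← ih fun j hj => hw j (List.mem_cons_of_mem _ hj)]
    have hi := hw i List.mem_cons_self
    show letG i * wordG w = _
    congr 1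
    interval_cases i <;> rfl

theorem ev_phi {w : List ℕ} (hw : ∀ i ∈ w, i < 3) : evG [x, y, y⁻¹] w = phi (wordG w) := by
  rw [wordG_ev hw]
  have h : [x, y, y⁻¹] = [XM, YM, YM⁻¹].map phi := by
    simp only [List.map_cons, List.map_nil, map_inv, phi_X, phi_Y]
  rw [h, evG_map]

theorem el_P1' : el P1 = wordG wS := by
  rw [wordG_ev (by decide)]
  exact el_P1

/-- the involution `phi (el P1)` -/
noncomputable def S1 : 𝒢 := phi (el P1)

theorem S1_eq : getG LE 19 = S1 := by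
  have h1 : getG LE 19 = evG LJ (wS.map (32 + ·)) := rfl
  rw [h1, evG_shift (L' := [x, y, y⁻¹]), ev_phi (by decide), ← el_P1']
  · rfl
  · intro i hi
    have h3 : i = 0 ∨ i = 1 ∨ i = 2 := by
      have : ∀ i ∈ wS, i = 0 ∨ i = 1 ∨ i = 2 := by decide
      exact this i hi
    rcases h3 with rfl | rfl | rfl <;> rfl

theorem mat_wS : mat wS = A1 := by decide +kernel
theorem mat_ga : mat ga = Ma := by decide +kernel
theorem mat_gb : mat gb = Mb := by decide +kernel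
theorem mat_gm : mat gm = Mm := by decide +kernel

theorem comm_of {w : List ℕ} (h : wordP (w ++ wS) = wordP (wS ++ w)) : wordG w * el P1 = el P1 * wordG w := by
  rw [el_P1', ← M24Norm.wordG_append, ← M24Norm.wordG_append]
  exact M24Norm.wordG_eq h

theorem comm_ga : wordG ga * el P1 = el P1 * wordG ga := comm_of (by decide +kernel)
theorem comm_gb : wordG gb * el P1 = el P1 * wordG gb := comm_of (by decide +kernel)
theorem comm_gm : wordG gm * el P1 = el P1 * wordG gm := comm_of (by decide +kernel)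

theorem gm_cube : wordG gm ^ 3 = 1 := by
  have h : wordG (gm ++ (gm ++ gm)) = wordG [] := M24Norm.wordG_eq (by decide +kernel)
  rw [M24Norm.wordG_append, M24Norm.wordG_append] at h
  rw [pow_succ, pow_two, mul_assoc]
  exact h

theorem gm_ne : wordG gm ≠ 1 := by
  intro h
  have h1 := conj_V (isMat_word gm) 1
  rw [h, map_one, one_mul, inv_one, mul_one, mat_gm] at h1
  have h2 := V_inj (by norm_num) (lin_lt (by decide) 1) h1
  revert h2
  decide +kernel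

theorem S1_V (v : ℕ) : S1 * V v * S1⁻¹ = V (lin A1 v) := by
  have h := conj_V (isMat_word wS) v
  rw [mat_wS, ← el_P1'] at h
  exact h

theorem S1_V' (v : ℕ) : S1 * V v = V (lin A1 v) * S1 := by
  rw [← S1_V]; group

/-- `g` acts with matrix `M` and commutes with `S1` -/
structure Acts (g : 𝒢) (M : List ℕ) : Prop where
  act : ∀ v, g * V v * g⁻¹ = V (lin M v)
  comm : g * S1 = S1 * g

theorem Acts.pair {g : 𝒢} {M : List ℕ} (h : Acts g M) (a : ℕ) : g * (V a * S1) * g⁻¹ = V (lin M a) * S1 := by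
  rw [← h.act]
  calc g * (V a * S1) * g⁻¹ = g * V a * S1 * g⁻¹ := by group
    _ = g * V a * (g⁻¹ * (g * S1)) * g⁻¹ := by group
    _ = g * V a * (g⁻¹ * (S1 * g)) * g⁻¹ := by rw [h.comm]
    _ = g * V a * g⁻¹ * S1 := by group

theorem acts_a : Acts (phi (wordG ga)) Ma where
  act v := by rw [← mat_ga]; exact conj_V (isMat_word ga) v
  comm := by unfold S1; rw [← map_mul, comm_ga, map_mul]

theorem acts_b : Acts (phi (wordG gb)) Mb where
  act v := by rw [← mat_gb]; exact conj_V (isMat_word gb) v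
  comm := by unfold S1; rw [← map_mul, comm_gb, map_mul]

theorem acts_m : Acts (phi (wordG gm)) Mm where
  act v := by rw [← mat_gm]; exact conj_V (isMat_word gm) v
  comm := by unfold S1; rw [← map_mul, comm_gm, map_mul]

/-! ### normal form modulo `[V, S1]` -/

/-- one reduction step -/
def red1 (t : ℕ × ℕ × ℕ) (a : ℕ) : ℕ := cond (a.testBit t.1) (a ^^^ t.2.2) a

/-- normal form -/
def can (a : ℕ) : ℕ := bas.foldl (fun a t => red1 t a) a

theorem bas_ok : ∀ t ∈ bas, t.2.1 ^^^ lin A1 t.2.1 = t.2.2 := by decide +kernel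

theorem can_spec (a : ℕ) : ∃ v, can a = a ^^^ (v ^^^ lin A1 v) := by
  have key : ∀ (B : List (ℕ × ℕ × ℕ)), (∀ t ∈ B, t.2.1 ^^^ lin A1 t.2.1 = t.2.2) → ∀ a,
      ∃ v, B.foldl (fun a t => red1 t a) a = a ^^^ (v ^^^ lin A1 v) := by
    intro B
    induction B with
    | nil => exact fun _ a => ⟨0, by simp [lin_zero]⟩
    | cons t B ih =>
      intro hB a
      obtain ⟨v, hv⟩ := ih (fun t ht => hB t (List.mem_cons_of_mem _ ht)) (red1 t a)
      rw [List.foldl_cons, hv]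
      unfold red1
      rcases a.testBit t.1 with _ | _
      · exact ⟨v, rfl⟩
      · refine ⟨t.2.1 ^^^ v, ?_⟩
        rw [cond_true, ← hB t List.mem_cons_self, lin_xor]
        ac_rfl
  exact key bas bas_ok a

/-! ### the pairs -/

/-- the pair is conjugate to one of the two standard pairs -/
def PP (t₁ t₂ : 𝒢) : Prop := ∃ g : 𝒢, (g * t₁ * g⁻¹ = V 433 ∧ g * t₂ * g⁻¹ = V 517 * S1) ∨
  (g * t₁ * g⁻¹ = V 1083 ∧ g * t₂ * g⁻¹ = V 1584 * S1)

theorem PP.conj {t₁ t₂ : 𝒢} (k : 𝒢) (h : PP (k * t₁ * k⁻¹) (k * t₂ * k⁻¹)) : PP t₁ t₂ := by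
  obtain ⟨g, hg⟩ := h
  refine ⟨g * k, ?_⟩
  have e : ∀ t : 𝒢, g * k * t * (g * k)⁻¹ = g * (k * t * k⁻¹) * g⁻¹ := fun t => by group
  rw [e, e]
  exact hg

theorem V_shift (v a : ℕ) : V v * (V a * S1) * (V v)⁻¹ = V (a ^^^ (v ^^^ lin A1 v)) * S1 := by
  rw [V_inv, V_xor, V_xor]
  calc V v * (V a * S1) * V v = V v * V a * (S1 * V v) := by group
    _ = V v * V a * (V (lin A1 v) * S1) := by rw [S1_V']
    _ = (V v * V a) * V (lin A1 v) * S1 := by group
    _ = (V a * V v) * V (lin A1 v) * S1 := by rw [V_comm v a]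
    _ = V a * (V v * V (lin A1 v)) * S1 := by group

theorem V_conj_V (v l : ℕ) : V v * V l * (V v)⁻¹ = V l := by
  rw [V_comm, mul_inv_cancel_right]

theorem PP_can {l a : ℕ} (h : PP (V l) (V (can a) * S1)) : PP (V l) (V a * S1) := by
  obtain ⟨v, hv⟩ := can_spec a
  apply PP.conj (V v)
  rw [V_conj_V, V_shift, ← hv]
  exact h

theorem PP_step {g : 𝒢} {M : List ℕ} (hg : Acts g M) {l a : ℕ} (h : PP (V (lin M l)) (V (can (lin M a)) * S1)) :
    PP (V l) (V a * S1) := by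
  apply PP.conj g
  rw [hg.act, hg.pair]
  exact PP_can h

/-- check of an orbit list -/
def chk : List (ℕ × ℕ) → List (ℕ × ℕ × ℕ) → Bool
  | _, [] => true
  | seen, t :: r => (cond (Nat.beq t.2.2 0) (seen.contains (lin Ma t.1, can (lin Ma t.2.1)))
      (seen.contains (lin Mb t.1, can (lin Mb t.2.1)))) && chk ((t.1, t.2.1) :: seen) r

theorem hs_pair {seen : List (ℕ × ℕ)} (hs : ∀ p ∈ seen, PP (V p.1) (V p.2 * S1)) {a b : ℕ}
    (h : seen.contains (a, b) = true) : PP (V a) (V b * S1) := hs (a, b) (List.contains_iff_mem.1 h)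

theorem chk_sound (o : List (ℕ × ℕ × ℕ)) : ∀ seen, chk seen o = true →
    (∀ p ∈ seen, PP (V p.1) (V p.2 * S1)) → ∀ t ∈ o, PP (V t.1) (V t.2.1 * S1) := by
  induction o with
  | nil => intro _ _ _ t ht; exact absurd ht (by simp)
  | cons t r ih =>
    intro seen hc hs
    obtain ⟨l, a, m⟩ := t
    have hc' : ((cond (Nat.beq m 0) (seen.contains (lin Ma l, can (lin Ma a)))
      (seen.contains (lin Mb l, can (lin Mb a)))) && chk ((l, a) :: seen) r) = true := hc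
    clear hc
    rw [Bool.and_eq_true] at hc'
    obtain ⟨hc1, hc2⟩ := hc'
    have ht : PP (V l) (V a * S1) := by
      rcases hb : Nat.beq m 0 with _ | _
      · rw [hb, cond_false] at hc1
        have h := hs_pair hs hc1
        exact PP_step (M := Mb) (l := l) (a := a) acts_b h
      · rw [hb, cond_true] at hc1
        have h := hs_pair hs hc1
        exact PP_step (M := Ma) (l := l) (a := a) acts_a h
    intro t' ht'
    rcases List.mem_cons.1 ht' with h | h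
    · rw [h]; exact ht
    · refine ih ((l, a) :: seen) hc2 ?_ t' h
      intro p hp
      rcases List.mem_cons.1 hp with h | h
      · rw [h]; exact ht
      · exact hs p h

theorem PP_rootI : PP (V 433) (V 517 * S1) := ⟨1, Or.inl ⟨by group, by group⟩⟩
theorem PP_rootT : PP (V 1083) (V 1584 * S1) := ⟨1, Or.inr ⟨by group, by group⟩⟩

private noncomputable def frE (n : ℕ) (f : ℕ → Bool) : Bool := Nat.rec (f 0) (fun k _ => f (Nat.succ k)) n

private theorem frE_eq (n : ℕ) (f : ℕ → Bool) : frE n f = f n := by cases n <;> rfl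

private noncomputable def cfE (L : List (ℕ × ℕ)) (x y : ℕ) : Bool :=
  List.rec false (fun p _ ih => Prod.rec (fun a b => Bool.rec ih (Bool.rec ih true (Nat.beq b y)) (Nat.beq a x)) p) L

private theorem cfE_mem {L : List (ℕ × ℕ)} {x y : ℕ} (h : cfE L x y = true) : L.contains (x, y) = true := by
  rw [List.contains_iff_mem]
  induction L with
  | nil => exact absurd h Bool.false_ne_true
  | cons p L ih =>
    obtain ⟨a, b⟩ := p
    have h' : (Bool.rec (cfE L x y) (Bool.rec (cfE L x y) true (Nat.beq b y)) (Nat.beq a x) : Bool) = true := h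
    cases h1 : Nat.beq a x
    · rw [h1] at h'; exact List.mem_cons_of_mem _ (ih h')
    · cases h2 : Nat.beq b y
      · rw [h1, h2] at h'; exact List.mem_cons_of_mem _ (ih h')
      · rw [Nat.eq_of_beq_eq_true h1, Nat.eq_of_beq_eq_true h2]; exact List.mem_cons_self

private noncomputable def chkE (o : List (ℕ × ℕ × ℕ)) : List (ℕ × ℕ) → Bool :=
  List.rec (fun _ => true) (fun t _ ih seen => Bool.rec false (ih ((t.1, t.2.1) :: seen))
    (frE (lin (cond (Nat.beq t.2.2 0) Ma Mb) t.1) fun x => frE (can (lin (cond (Nat.beq t.2.2 0) Ma Mb) t.2.1)) fun y =>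
      cfE seen x y)) o

private theorem chkE_sound (o : List (ℕ × ℕ × ℕ)) : ∀ seen, chkE o seen = true → chk seen o = true := by
  induction o with
  | nil => intro _ _; rfl
  | cons t r ih =>
    intro seen h
    have h' : (Bool.rec false (chkE r ((t.1, t.2.1) :: seen))
      (frE (lin (cond (Nat.beq t.2.2 0) Ma Mb) t.1) fun x => frE (can (lin (cond (Nat.beq t.2.2 0) Ma Mb) t.2.1)) fun y =>
        cfE seen x y) : Bool) = true := h
    rw [frE_eq, frE_eq] at h'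
    show ((cond (Nat.beq t.2.2 0) (seen.contains (lin Ma t.1, can (lin Ma t.2.1)))
      (seen.contains (lin Mb t.1, can (lin Mb t.2.1)))) && chk ((t.1, t.2.1) :: seen) r) = true
    cases h1 : cfE seen (lin (cond (Nat.beq t.2.2 0) Ma Mb) t.1) (can (lin (cond (Nat.beq t.2.2 0) Ma Mb) t.2.1))
    · rw [h1] at h'; exact absurd h' Bool.false_ne_true
    · rw [h1] at h'
      rw [ih _ h', Bool.and_true]
      have h2 := cfE_mem h1
      revert h2
      cases Nat.beq t.2.2 0 <;> exact id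

theorem chk_I : chk [(433, 517)] oI = true := chkE_sound _ _ (by decide +kernel)
theorem chk_T : chk [(1083, 1584)] oT = true := chkE_sound _ _ (by decide +kernel)

theorem seed_I (p : ℕ × ℕ) (hp : p ∈ [((433 : ℕ), (517 : ℕ))]) : PP (V p.1) (V p.2 * S1) := by
  have e : p = (433, 517) := List.mem_singleton.1 hp
  have e1 : p.1 = 433 := by rw [e]
  have e2 : p.2 = 517 := by rw [e]
  rw [e1, e2]
  exact PP_rootI

theorem seed_T (p : ℕ × ℕ) (hp : p ∈ [((1083 : ℕ), (1584 : ℕ))]) : PP (V p.1) (V p.2 * S1) := by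
  have e : p = (1083, 1584) := List.mem_singleton.1 hp
  have e1 : p.1 = 1083 := by rw [e]
  have e2 : p.2 = 1584 := by rw [e]
  rw [e1, e2]
  exact PP_rootT

theorem PP_I (t : ℕ × ℕ × ℕ) (ht : t ∈ oI) : PP (V t.1) (V t.2.1 * S1) :=
  chk_sound oI [(433, 517)] chk_I seed_I t ht

theorem PP_T (t : ℕ × ℕ × ℕ) (ht : t ∈ oT) : PP (V t.1) (V t.2.1 * S1) :=
  chk_sound oT [(1083, 1584)] chk_T seed_T t ht

/-- all pairs in the lists -/
def allp : List (ℕ × ℕ) := (433, 517) :: (1083, 1584) :: ((oI ++ oT).map fun t => (t.1, t.2.1))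

theorem PP_gen (A B : List (ℕ × ℕ × ℕ)) (hA : ∀ t ∈ A, PP (V t.1) (V t.2.1 * S1))
    (hB : ∀ t ∈ B, PP (V t.1) (V t.2.1 * S1)) (p : ℕ × ℕ)
    (hp : p ∈ ((433 : ℕ), (517 : ℕ)) :: (1083, 1584) :: ((A ++ B).map fun t => (t.1, t.2.1))) :
    PP (V p.1) (V p.2 * S1) := by
  rw [List.mem_cons, List.mem_cons, List.mem_map] at hp
  obtain hp | hp | ⟨t, ht, hp⟩ := hp
  · exact seed_I p (List.mem_singleton.2 hp)
  · exact seed_T p (List.mem_singleton.2 hp)
  · rw [← hp]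
    rcases List.mem_append.1 ht with ht | ht
    · exact hA t ht
    · exact hB t ht

theorem PP_allp (p : ℕ × ℕ) (hp : p ∈ allp) : PP (V p.1) (V p.2 * S1) := PP_gen oI oT PP_I PP_T p hp

/-- coverage -/
def cover : Bool := [0, 34, 517, 551, 1047, 1077, 1554, 1584].all fun a => Nat.beq a 0 ||
  fd.all fun l => Nat.beq (can (l ^^^ a)) 0 || allp.contains (l, a)

theorem cover_ok : cover = true := by
  have h : ([0, 34, 517, 551, 1047, 1077, 1554, 1584].all fun a => Nat.beq a 0 ||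
      fd.all fun l => Nat.beq (can (l ^^^ a)) 0 || cfE allp l a) = true := by decide +kernel
  refine List.all_eq_true.2 fun a ha => ?_
  have h1 := List.all_eq_true.1 h a ha
  rw [Bool.or_eq_true] at h1 ⊢
  refine h1.imp id fun h2 => List.all_eq_true.2 fun l hl => ?_
  have h3 := List.all_eq_true.1 h2 l hl
  rw [Bool.or_eq_true] at h3 ⊢
  exact h3.imp id cfE_mem

/-- the set of bits of a list -/
noncomputable def bits (L : List ℕ) : ℕ := List.rec 0 (fun a _ ih => Nat.lor ih (Nat.shiftLeft 1 a)) L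

theorem cont_eq (L : List ℕ) : L.contains = fun x => Nat.beq (Nat.land (Nat.shiftRight (bits L) x) 1) 1 := by
  funext x
  rw [H111.JM.Eng.land_one]
  have h : (bits L).testBit x = L.contains x := by
    induction L with
    | nil => exact Nat.zero_testBit x
    | cons a L ih =>
      rw [show bits (a :: L) = bits L ||| 1 <<< a from rfl, Nat.testBit_or, ih, Nat.one_shiftLeft, Nat.testBit_two_pow,
        List.contains_cons, Bool.or_comm]
      exact congrArg (· || L.contains x) (decide_eq_decide.2 eq_comm)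
  rw [h]
  cases L.contains x <;> rfl

theorem fd_ok : (duads.all fun l => !(Nat.beq (lin A1 l) l) || fd.contains l) = true := by decide +kernel

/-! ### the class 2B in `V` -/

end Cfsg.Agent.H265.JM.EQ
end

-- part: H265/JM/EQPair
section
/-!
# S5580, Part III, engine (Q): the two classes of pairs (helper265)

`pair_cases` : `t₁ ∈ V`, `t₂ ∈ N(V) ∖ V` commuting, `t₁, t₂, t₁t₂` of class 2B: the pair `(t₁, t₂)` is conjugate to one
of two explicit pairs.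
-/

set_option autoImplicit false
set_option maxRecDepth 20000

open Cfsg

namespace Cfsg.Agent.H265.JM.EQ

open Cfsg.Agent.Lib Cfsg.Agent.Lib.F2MatGroup
open Cfsg.Agent.J4.Rep112 Cfsg.Agent.J4.LowerData Cfsg.Agent.J4.Beta
open Cfsg.Agent.J4.Classes Cfsg.Agent.J4.ClassesData Cfsg.Agent.J4.ClassesAbs
open Cfsg.Agent.H858.VK Cfsg.Agent.H878.JM.Base Cfsg.Agent.H858.Data Cfsg.Agent.H858
open Cfsg.Agent.J4.Pres Cfsg.Agent.J4.M24Hom Cfsg.Agent.J4.Lower
open Cfsg.Agent.J4.Nodes (wordG wordP letG)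
open Cfsg.Agent.H858.Pent (lin_xor lin_zero)
open Cfsg.Agent.J4.M24InvolData Cfsg.Agent.SporadicStructure.M24El
open Cfsg.Agent.J4.Invol (EJ s d)
open Cfsg.Agent.H860.JM

local notation "𝒢" => Cfsg.Spor.J4

/-! ### the class 2B in `V` -/

theorem duads_mat : (duads.all fun l => duads.contains (lin (mat [0]) l) && duads.contains (lin (mat [1]) l) &&
    duads.contains (lin (mat [2]) l)) = true := by
  rw [cont_eq duads]
  decide +kernel

theorem duads_lt : (duads.all fun l => Nat.blt l 2048) = true := by decide +kernel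

theorem mem_duads_mat {l : ℕ} (hl : l ∈ duads) : ∀ i < 3, lin (mat [i]) l ∈ duads := by
  have h := duads_mat
  rw [List.all_eq_true] at h
  have h1 := h l hl
  rw [Bool.and_eq_true, Bool.and_eq_true, List.contains_iff_mem, List.contains_iff_mem, List.contains_iff_mem] at h1
  intro i hi
  have h3 : i = 0 ∨ i = 1 ∨ i = 2 := by omega
  rcases h3 with h3 | h3 | h3
  · rw [h3]; exact h1.1.1
  · rw [h3]; exact h1.1.2
  · rw [h3]; exact h1.2

theorem XM_inv : XM⁻¹ = wordG [0] := by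
  have h : wordG ([0] ++ [0]) = wordG [] := M24Norm.wordG_eq (by decide +kernel)
  rw [M24Norm.wordG_append] at h
  have h0 : wordG [0] = XM := mul_one _
  rw [h0] at h ⊢
  exact inv_eq_of_mul_eq_one_left h

theorem duad_conj (m : M24) : ∀ l ∈ duads, ∃ l' ∈ duads, phi m * V l * (phi m)⁻¹ = V l' := by
  have hm : m ∈ Subgroup.closure ({XM, YM} : Set M24) := by rw [closure_XYM]; exact Subgroup.mem_top m
  have key : ∀ i < 3, ∀ l ∈ duads, ∃ l' ∈ duads, phi (wordG [i]) * V l * (phi (wordG [i]))⁻¹ = V l' :=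
    fun i hi l hl => ⟨_, mem_duads_mat hl i hi, conj_V (isMat_word [i]) l⟩
  have h0 : wordG [0] = XM := mul_one _
  have h1 : wordG [1] = YM := mul_one _
  have h2 : wordG [2] = YM⁻¹ := mul_one _
  refine Subgroup.closure_induction'' (p := fun m _ => ∀ l ∈ duads, ∃ l' ∈ duads, phi m * V l * (phi m)⁻¹ = V l')
    ?_ ?_ ?_ ?_ hm
  · intro g hg
    rcases hg with hg | hg
    · rw [hg, ← h0]; exact key 0 (by norm_num)
    · rw [Set.mem_singleton_iff.1 hg, ← h1]; exact key 1 (by norm_num)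
  · intro g hg
    rcases hg with hg | hg
    · rw [hg, XM_inv]; exact key 0 (by norm_num)
    · rw [Set.mem_singleton_iff.1 hg, ← h2]; exact key 2 (by norm_num)
  · intro l hl
    exact ⟨l, hl, by rw [map_one]; group⟩
  · intro a b _ _ ha hb l hl
    obtain ⟨l1, hl1, e1⟩ := hb l hl
    obtain ⟨l2, hl2, e2⟩ := ha l1 hl1
    refine ⟨l2, hl2, ?_⟩
    rw [← e2, ← e1, map_mul]
    group

theorem five_mem : 5 ∈ duads := by decide

theorem mem_duads {l : ℕ} (hl : l < 2048) (h : IsConj d (V l)) : l ∈ duads := by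
  have h1 : V l ≠ 1 := (sq_of_conj d_mem d_ne h).1
  obtain ⟨m, hm | hm⟩ := EJ_cases (V_mem l) h1
  · exfalso
    apply Cfsg.Agent.J4.Invol.not_isConj_s_d
    have h2 : IsConj s (V l) := isConj_iff.2 ⟨phi m, hm.symm⟩
    exact h2.trans h.symm
  · obtain ⟨l', hl', e⟩ := duad_conj m 5 five_mem
    rw [d_eq, e] at hm
    have hlt : l' < 2048 := by
      have := duads_lt
      rw [List.all_eq_true] at this
      exact of_eq_true (Nat.blt_eq ▸ eq_true (this l' hl'))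
    rw [V_inj hl hlt hm]
    exact hl'

/-! ### elements of class 2A -/

theorem q10_eq : getG LE 49 = s := by
  rw [show 49 = 39 + 10 by rfl, getG_LE' (by norm_num), s_eq]
  have h := evG_be 1024
  rw [show be 1024 = [49] by decide +kernel, evG_cons, evG_nil, mul_one] at h
  rw [← h, show 49 = 39 + 10 by rfl, getG_LE' (by norm_num)]

theorem S1_2A : IsConj s S1 := by
  have h := eqE (a := [2, 19]) (b := [49, 2]) (by decide +kernel)
  rw [evG_cons, evG_cons, evG_nil, mul_one, evG_cons, evG_cons, evG_nil, mul_one, S1_eq, q10_eq] at h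
  refine IsConj.symm (isConj_iff.2 ⟨getG LE 2, ?_⟩)
  rw [h, mul_inv_cancel_right]

theorem X5_2A : IsConj s (V 5 * phi XM) := by
  have h := eqE (a := [0, 39, 41, 52]) (b := [49, 0]) (by decide +kernel)
  have h5 : evG LE [39, 41] = V 5 := evG_be 5
  have e : evG LE [0, 39, 41, 52] = getG LE 0 * (V 5 * phi XM) := by
    rw [← h5, phi_X, ← x_eq]
    simp only [evG_cons, evG_nil, mul_one, mul_assoc]
  rw [e, evG_cons, evG_cons, evG_nil, mul_one, q10_eq] at h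
  refine IsConj.symm (isConj_iff.2 ⟨getG LE 0, ?_⟩)
  rw [h, mul_inv_cancel_right]

theorem not_2A {t : 𝒢} (h : IsConj s t) : ¬ IsConj d t := fun h' =>
  Cfsg.Agent.J4.Invol.not_isConj_s_d (h.trans h'.symm)

/-! ### the predicate -/

/-- the predicate for the second member of the pair -/
def Pr (u : Matrix.GeneralLinearGroup (Fin 112) (ZMod 2)) : Prop := ∀ t₁ t₂ : 𝒢, rho t₂ = u → t₁ ∈ EJ →
  t₁ * t₂ = t₂ * t₁ → IsConj d t₁ → IsConj d t₂ → IsConj d (t₁ * t₂) → PP t₁ t₂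

theorem conj_mem_N {g e : 𝒢} (hg : g ∈ Subgroup.normalizer (EJ : Set 𝒢)) (he : e ∈ EJ) : g * e * g⁻¹ ∈ EJ :=
  (Subgroup.mem_normalizer_iff.1 hg e).1 he

theorem isConj_conj {a b g : 𝒢} (h : IsConj a b) : IsConj a (g * b * g⁻¹) := h.trans (isConj_iff.2 ⟨g, rfl⟩)

theorem Pr_conj {g : 𝒢} (hg : g ∈ Subgroup.normalizer (EJ : Set 𝒢)) {u : Matrix.GeneralLinearGroup (Fin 112) (ZMod 2)}
    (h : Pr (rho g * u * (rho g)⁻¹)) : Pr u := by
  intro t₁ t₂ h2 h1 hc c1 c2 c12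
  apply PP.conj g
  apply h
  · rw [map_mul, map_mul, map_inv, h2]
  · exact conj_mem_N hg h1
  · have e1 : g * t₁ * g⁻¹ * (g * t₂ * g⁻¹) = g * (t₁ * t₂) * g⁻¹ := by group
    have e2 : g * t₂ * g⁻¹ * (g * t₁ * g⁻¹) = g * (t₂ * t₁) * g⁻¹ := by group
    rw [e1, e2, hc]
  · exact isConj_conj c1
  · exact isConj_conj c2
  · have e1 : g * t₁ * g⁻¹ * (g * t₂ * g⁻¹) = g * (t₁ * t₂) * g⁻¹ := by group
    rw [e1]
    exact isConj_conj c12

theorem exists_V {e : 𝒢} (he : e ∈ EJ) : ∃ v < 2048, e = V v := by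
  obtain ⟨v, hv, hev⟩ := exists_beta hyp.sq hyp.comm ((Cfsg.Agent.J4.Invol.mem_EJ_iff rho_injective e).1 he)
  rw [qs_length] at hv
  exact ⟨v, hv, rho_injective (by rw [rho_V]; exact hev)⟩

theorem repsE1 (v : ℕ) (hv : v ∈ [0, 34, 517, 551, 1047, 1077, 1554, 1584]) : Pr (beta qs v * psi (el P1)) := by
  intro t₁ t₂ h2 h1 hc c1 c2 c12
  have e2 : t₂ = V v * S1 := rho_injective (by rw [h2, map_mul, rho_V]; rfl)
  obtain ⟨l, hl, e1⟩ := exists_V h1
  rw [e1] at c1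
  have hd := mem_duads hl c1
  have hfix : lin A1 l = l := by
    apply V_inj (lin_lt (by decide) l) hl
    rw [← S1_V]
    rw [e1, e2] at hc
    have e3 : V v * (V l * S1) = V v * (S1 * V l) := by
      calc V v * (V l * S1) = V v * V l * S1 := by group
        _ = V l * V v * S1 := by rw [V_comm]
        _ = V l * (V v * S1) := by group
        _ = V v * S1 * V l := hc
        _ = V v * (S1 * V l) := by group
    have e4 := mul_left_cancel e3
    rw [← e4, mul_inv_cancel_right]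
  have hfd : l ∈ fd := by
    have h := fd_ok
    rw [List.all_eq_true] at h
    have h3 := h l hd
    rw [hfix, Nat.beq_refl, Bool.not_true, Bool.false_or, List.contains_iff_mem] at h3
    exact h3
  have hcov := cover_ok
  unfold cover at hcov
  rw [List.all_eq_true] at hcov
  have h4 := hcov v hv
  rw [Bool.or_eq_true, Nat.beq_eq] at h4
  rcases h4 with h4 | h4
  · exfalso
    apply not_2A S1_2A
    rw [e2, h4, V_zero, one_mul] at c2
    exact c2
  · rw [List.all_eq_true] at h4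
    have h5 := h4 l hfd
    rw [Bool.or_eq_true, Nat.beq_eq, List.contains_iff_mem] at h5
    rcases h5 with h5 | h5
    · exfalso
      obtain ⟨w, hw⟩ := can_spec (l ^^^ v)
      rw [h5] at hw
      have e5 : V w * (t₁ * t₂) * (V w)⁻¹ = S1 := by
        have e6 : t₁ * t₂ = V (l ^^^ v) * S1 := by rw [e1, e2, V_xor]; group
        rw [e6, V_shift, ← hw, V_zero, one_mul]
      apply not_2A S1_2A
      rw [← e5]
      exact isConj_conj c12
    · rw [e1, e2]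
      exact PP_allp (l, v) h5

/-- the fixed duads of `XM` -/
def fX : List (ℕ × ℕ) := [(5, 0), (15, 2), (17, 1), (27, 3), (325, 64), (337, 65), (495, 98), (507, 99), (1541, 512),
  (1553, 513), (1701, 544), (1713, 545)]

theorem fX_ok : (duads.all fun l => !(Nat.beq (lin Ax l) l) ||
    fX.any fun p => Nat.beq p.1 l && Nat.beq l (5 ^^^ (p.2 ^^^ lin Ax p.2))) = true := by decide +kernel

theorem X_V (v : ℕ) : phi XM * V v * (phi XM)⁻¹ = V (lin Ax v) := by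
  apply rho_injective
  rw [map_mul, map_mul, map_inv, rho_V, rho_V]
  exact hyp.actX v

theorem X_V' (v : ℕ) : phi XM * V v = V (lin Ax v) * phi XM := by
  rw [← X_V]; group

theorem X_shift (v a : ℕ) : V v * (V a * phi XM) * (V v)⁻¹ = V (a ^^^ (v ^^^ lin Ax v)) * phi XM := by
  rw [V_inv, V_xor, V_xor]
  calc V v * (V a * phi XM) * V v = V v * V a * (phi XM * V v) := by group
    _ = V v * V a * (V (lin Ax v) * phi XM) := by rw [X_V']
    _ = (V v * V a) * V (lin Ax v) * phi XM := by group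
    _ = (V a * V v) * V (lin Ax v) * phi XM := by rw [V_comm v a]
    _ = V a * (V v * V (lin Ax v)) * phi XM := by group

theorem repsE2 (v : ℕ) (hv : v ∈ [0, 5]) : Pr (beta qs v * psi XM) := by
  intro t₁ t₂ h2 h1 hc c1 c2 c12
  have e2 : t₂ = V v * phi XM := rho_injective (by rw [h2, map_mul, rho_V]; rfl)
  exfalso
  obtain rfl | rfl : v = 0 ∨ v = 5 := by simpa using hv
  · rw [V_zero, one_mul] at e2
    obtain ⟨l, hl, e1⟩ := exists_V h1
    rw [e1] at c1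
    have hd := mem_duads hl c1
    have hfix : lin Ax l = l := by
      apply V_inj (lin_lt (by decide) l) hl
      rw [← X_V]
      rw [e1, e2] at hc
      rw [← hc, mul_inv_cancel_right]
    have h := fX_ok
    rw [List.all_eq_true] at h
    have h3 := h l hd
    rw [hfix, Nat.beq_refl, Bool.not_true, Bool.false_or, List.any_eq_true] at h3
    obtain ⟨p, -, h4⟩ := h3
    rw [Bool.and_eq_true, Nat.beq_eq, Nat.beq_eq] at h4
    apply not_2A X5_2A
    have e5 : V 5 * phi XM = V p.2 * (t₁ * t₂) * (V p.2)⁻¹ := by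
      rw [e1, e2, X_shift]
      congr 2
      rw [h4.2]
      rw [Nat.xor_assoc, Nat.xor_self, Nat.xor_zero]
    rw [e5]
    exact isConj_conj c12
  · apply not_2A X5_2A
    rw [← e2]
    exact c2

theorem pair_cases {t₁ t₂ : 𝒢} (h1 : t₁ ∈ EJ) (h2 : t₂ ∈ Subgroup.normalizer (EJ : Set 𝒢)) (h2' : t₂ ∉ EJ)
    (hc : t₁ * t₂ = t₂ * t₁) (c1 : IsConj d t₁) (c2 : IsConj d t₂) (c12 : IsConj d (t₁ * t₂)) : PP t₁ t₂ := by
  have hfin := Cfsg.Agent.H858.VK.finite_J4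
  rw [NEJ_eq] at h2
  obtain ⟨e, he, k, hek⟩ := Cfsg.Agent.H858.VK.mem_B.1 h2
  have hk : k ≠ 1 := by
    rintro rfl
    apply h2'
    rw [hek, map_one, mul_one]
    exact he
  obtain ⟨v, hv, hev⟩ := exists_V he
  have hr : rho t₂ = beta qs v * psi k := by
    rw [hek, map_mul, hev, rho_V]; rfl
  have hsq : beta qs v * psi k * (beta qs v * psi k) = 1 := by
    rw [← hr, ← map_mul, (sq_of_conj d_mem d_ne c2).2, map_one]
  have main := Cfsg.Agent.H541.JM.F13.pred_invol hyp Pr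
    (fun r u h => Pr_conj (g := V r) (Subgroup.le_normalizer (V_mem r)) (by rw [rho_V]; exact h))
    (fun ν u h => Pr_conj (g := phi ν) (phi_mem ν) h) repsE1 repsE2 v hv k hk hsq
  exact main t₁ t₂ hr h1 hc c1 c2 c12

end Cfsg.Agent.H265.JM.EQ
end

-- part: H265/JM/EQRot
section
/-!
# S5580, Part III, engine (Q): elements of order 3 rotating a pair of commuting involutions (helper265)
-/

set_option autoImplicit false

open Cfsg

namespace Cfsg.Agent.H265.JM.EQ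

variable {G : Type*} [Group G]

/-- `g` rotates the pair: `a ↦ b ↦ a b` -/
structure Rot (a b g : G) : Prop where
  one : g * a * g⁻¹ = b
  two : g * b * g⁻¹ = a * b

/-- the centralizer of a pair -/
def C2 (a b : G) : Subgroup G := Subgroup.centralizer ({a, b} : Set G)

theorem mem_C2 {a b c : G} : c ∈ C2 a b ↔ c * a * c⁻¹ = a ∧ c * b * c⁻¹ = b := by
  unfold C2
  rw [Subgroup.mem_centralizer_iff]
  constructor
  · intro h
    refine ⟨?_, ?_⟩
    · rw [← h a (by simp), mul_inv_cancel_right]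
    · rw [← h b (by simp), mul_inv_cancel_right]
  · rintro ⟨h1, h2⟩ x hx
    rcases hx with rfl | hx
    · exact (mul_inv_eq_iff_eq_mul.1 h1).symm
    · rw [Set.mem_singleton_iff.1 hx]
      exact (mul_inv_eq_iff_eq_mul.1 h2).symm

theorem Rot.mem {a b g h : G} (hg : Rot a b g) (hh : Rot a b h) : g⁻¹ * h ∈ C2 a b := by
  rw [mem_C2]
  constructor
  · calc g⁻¹ * h * a * (g⁻¹ * h)⁻¹ = g⁻¹ * (h * a * h⁻¹) * g := by group
      _ = g⁻¹ * (g * a * g⁻¹) * g := by rw [hh.one, hg.one]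
      _ = a := by group
  · calc g⁻¹ * h * b * (g⁻¹ * h)⁻¹ = g⁻¹ * (h * b * h⁻¹) * g := by group
      _ = g⁻¹ * (g * b * g⁻¹) * g := by rw [hh.two, hg.two]
      _ = b := by group

theorem Rot.conj {a b g c : G} (hg : Rot a b g) (hc : c ∈ C2 a b) : Rot a b (c * g * c⁻¹) := by
  obtain ⟨h1, h2⟩ := mem_C2.1 hc
  obtain ⟨h3, h4⟩ := mem_C2.1 (Subgroup.inv_mem _ hc)
  rw [inv_inv] at h3 h4
  constructor
  · calc c * g * c⁻¹ * a * (c * g * c⁻¹)⁻¹ = c * (g * (c⁻¹ * a * c) * g⁻¹) * c⁻¹ := by group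
      _ = b := by rw [h3, hg.one, h2]
  · calc c * g * c⁻¹ * b * (c * g * c⁻¹)⁻¹ = c * (g * (c⁻¹ * b * c) * g⁻¹) * c⁻¹ := by group
      _ = c * (a * b) * c⁻¹ := by rw [h4, hg.two]
      _ = (c * a * c⁻¹) * (c * b * c⁻¹) := by group
      _ = a * b := by rw [h1, h2]

theorem Rot.norm {a b g : G} (ha : a * a = 1) (hb : b * b = 1) (hab : a * b = b * a) (hg : Rot a b g) :
    g ∈ Subgroup.normalizer (C2 a b : Set G) := by
  have e3 : g * (a * b) * g⁻¹ = a := by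
    calc g * (a * b) * g⁻¹ = (g * a * g⁻¹) * (g * b * g⁻¹) := by group
      _ = b * (a * b) := by rw [hg.one, hg.two]
      _ = b * (b * a) := by rw [hab]
      _ = a := by rw [← mul_assoc, hb, one_mul]
  have e1 := hg.one
  have e2 := hg.two
  have f1 : g⁻¹ * b * g = a := by rw [← e1]; group
  have f2 : g⁻¹ * (a * b) * g = b := by rw [← e2]; group
  have f3 : g⁻¹ * a * g = a * b := by
    calc g⁻¹ * a * g = g⁻¹ * (g * (a * b) * g⁻¹) * g := by rw [e3]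
      _ = a * b := by group
  rw [Subgroup.mem_normalizer_iff]
  intro c
  change c ∈ C2 a b ↔ g * c * g⁻¹ ∈ C2 a b
  rw [mem_C2, mem_C2]
  constructor
  · rintro ⟨h1, h2⟩
    constructor
    · calc g * c * g⁻¹ * a * (g * c * g⁻¹)⁻¹ = g * (c * (g⁻¹ * a * g) * c⁻¹) * g⁻¹ := by group
        _ = g * ((c * a * c⁻¹) * (c * b * c⁻¹)) * g⁻¹ := by rw [f3]; group
        _ = a := by rw [h1, h2, e3]
    · calc g * c * g⁻¹ * b * (g * c * g⁻¹)⁻¹ = g * (c * (g⁻¹ * b * g) * c⁻¹) * g⁻¹ := by group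
        _ = b := by rw [f1, h1, e1]
  · rintro ⟨h1, h2⟩
    have k1 : c * a * c⁻¹ = a := by
      calc c * a * c⁻¹ = g⁻¹ * (g * c * g⁻¹ * (g * a * g⁻¹) * (g * c * g⁻¹)⁻¹) * g := by group
        _ = a := by rw [e1, h2, f1]
    refine ⟨k1, ?_⟩
    calc c * b * c⁻¹ = g⁻¹ * (g * c * g⁻¹ * (g * b * g⁻¹) * (g * c * g⁻¹)⁻¹) * g := by group
        _ = g⁻¹ * ((g * c * g⁻¹ * a * (g * c * g⁻¹)⁻¹) * (g * c * g⁻¹ * b * (g * c * g⁻¹)⁻¹)) * g := by
          rw [e2]; group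
        _ = b := by rw [h1, h2, f2]

theorem rot_conj [Finite G] {a b r w y : G} (ha1 : a ≠ 1) (ha : a * a = 1) (hb : b * b = 1) (hab : a * b = b * a)
    (hr : Rot a b r) (hr3 : r * r * r = 1) (hw : w ∈ C2 a b) (hw3 : w * w * w = 1) (hwr : w * r = r * w)
    (hC : ¬ 3 * Nat.card (Subgroup.zpowers w) ∣ Nat.card (C2 a b)) (hy : Rot a b y) (hy3 : y * y * y = 1) :
    ∃ c ∈ C2 a b, c * y * c⁻¹ = r ∨ c * y * c⁻¹ = r * w ∨ c * y * c⁻¹ = r * (w * w) := by
  have : Fact (Nat.Prime 3) := ⟨Nat.prime_three⟩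
  -- `r ∉ C`
  have hrC : r ∉ C2 a b := by
    intro h
    have h1 := (mem_C2.1 h).1
    have h2 := (mem_C2.1 h).2
    rw [hr.one] at h1
    rw [hr.two, h1] at h2
    exact ha1 (h2.symm.trans (ha))
  have hr1 : r ≠ 1 := fun h => hrC (by rw [h]; exact Subgroup.one_mem _)
  have hr3' : r ^ 3 = 1 := by rw [pow_succ, pow_two]; exact hr3
  have hw3' : w ^ 3 = 1 := by rw [pow_succ, pow_two]; exact hw3
  have hor : orderOf r = 3 := orderOf_eq_prime hr3' hr1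
  have hcr : Nat.card (Subgroup.zpowers r) = 3 := by rw [Nat.card_zpowers, hor]
  -- `C ⊓ ⟨r⟩ = 1`
  have hinf : C2 a b ⊓ Subgroup.zpowers r = ⊥ := by
    rw [inf_comm]
    have h1 : Nat.card (Subgroup.zpowers r ⊓ C2 a b : Subgroup G) ∣ 3 := by
      rw [← hcr]; exact Subgroup.card_dvd_of_le inf_le_left
    rcases (Nat.dvd_prime Nat.prime_three).1 h1 with h2 | h2
    · exact Subgroup.card_eq_one.1 h2
    · exfalso
      have h3 : Subgroup.zpowers r ⊓ C2 a b = Subgroup.zpowers r :=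
        Subgroup.eq_of_le_of_card_ge inf_le_left (by rw [h2, hcr])
      apply hrC
      exact (h3.symm ▸ Subgroup.mem_zpowers r : r ∈ Subgroup.zpowers r ⊓ C2 a b).2
  have hnorm : Subgroup.zpowers r ≤ Subgroup.normalizer (C2 a b : Set G) := by
    rw [Subgroup.zpowers_le]; exact hr.norm ha hb hab
  set H : Subgroup G := C2 a b ⊔ Subgroup.zpowers r with hH
  have hcH : Nat.card H = Nat.card (C2 a b) * 3 := by
    rw [hH, Cfsg.Agent.H858.Abs.card_sup hnorm hinf, hcr]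
  -- `T`
  have hwz : Subgroup.zpowers w ≤ C2 a b := by rw [Subgroup.zpowers_le]; exact hw
  have hrn : Subgroup.zpowers r ≤ Subgroup.normalizer (Subgroup.zpowers w : Set G) := by
    rw [Subgroup.zpowers_le, Subgroup.mem_normalizer_iff]
    have hcomm : ∀ x ∈ Subgroup.zpowers w, r * x * r⁻¹ = x := by
      rintro _ ⟨i, rfl⟩
      have h1 : Commute r (w ^ i) := (show Commute r w from hwr.symm).zpow_right i
      show r * w ^ i * r⁻¹ = w ^ i
      rw [h1.eq, mul_inv_cancel_right]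
    intro x
    constructor
    · intro hx
      change r * x * r⁻¹ ∈ Subgroup.zpowers w
      rw [hcomm x hx]; exact hx
    · intro hx
      have hx' : r * x * r⁻¹ ∈ Subgroup.zpowers w := hx
      have h1 := hcomm _ hx'
      have h2 : r * x * r⁻¹ = x := by
        have h3 : r * x * r⁻¹ = r⁻¹ * (r * (r * x * r⁻¹) * r⁻¹) * r := by group
        rw [h1] at h3
        rw [h3]; group
      rw [h2] at hx'
      exact hx'
  set T : Subgroup G := Subgroup.zpowers w ⊔ Subgroup.zpowers r with hT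
  have hTi : Subgroup.zpowers w ⊓ Subgroup.zpowers r = ⊥ :=
    le_bot_iff.1 ((inf_le_inf_right _ hwz).trans hinf.le)
  have hcT : Nat.card T = Nat.card (Subgroup.zpowers w) * 3 := by
    rw [hT, Cfsg.Agent.H858.Abs.card_sup hrn hTi, hcr]
  have hTH : T ≤ H := sup_le_sup_right hwz _
  have hTelt : ∀ t ∈ T, ∃ i j : ℤ, t = w ^ i * r ^ j := by
    intro t ht
    obtain ⟨_, ⟨i, rfl⟩, _, ⟨j, rfl⟩, h⟩ := Cfsg.Agent.H858.Abs.exists_mul_of_mem_sup hrn ht
    exact ⟨i, j, h⟩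
  have hcw : Commute w r := hwr
  have hT3 : ∀ t ∈ T, t ^ 3 = 1 := by
    intro t ht
    obtain ⟨i, j, rfl⟩ := hTelt t ht
    rw [(hcw.zpow_zpow i j).mul_pow, ← zpow_natCast, ← zpow_natCast, ← zpow_mul, ← zpow_mul, mul_comm i, mul_comm j,
      zpow_mul, zpow_mul, zpow_natCast, zpow_natCast, hw3', hr3', one_zpow, one_zpow, one_mul]
  have hyH : y ∈ H := by
    have h1 : y = r * (r⁻¹ * y) := by group
    rw [h1]
    exact Subgroup.mul_mem _ ((le_sup_right : Subgroup.zpowers r ≤ H) (Subgroup.mem_zpowers r))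
      ((le_sup_left : C2 a b ≤ H) (hr.mem hy))
  have hTp : IsPGroup 3 (T.subgroupOf H) := by
    rintro ⟨⟨t, htH⟩, ht⟩
    refine ⟨1, ?_⟩
    apply Subtype.ext
    apply Subtype.ext
    exact hT3 t ht
  have hidx : ¬ 3 ∣ (T.subgroupOf H).index := by
    intro h
    have h1 := (T.subgroupOf H).card_mul_index
    rw [Nat.card_congr (Subgroup.subgroupOfEquivOfLe hTH).toEquiv, hcT, hcH] at h1
    apply hC
    have h2 : Nat.card (Subgroup.zpowers w) * 3 * 3 ∣ Nat.card (C2 a b) * 3 := by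
      rw [← h1]; exact Nat.mul_dvd_mul_left _ h
    have h3 := Nat.dvd_of_mul_dvd_mul_right (by norm_num) h2
    rwa [mul_comm] at h3
  have hy3' : (⟨y, hyH⟩ : H) ^ 3 ^ 1 = 1 := by
    apply Subtype.ext
    show y ^ 3 ^ 1 = 1
    rw [pow_one, pow_succ, pow_two]; exact hy3
  obtain ⟨⟨x, hxH⟩, hx⟩ := Cfsg.Agent.H859.SylEleven.exists_conj_mem hTp hidx ⟨1, hy3'⟩
  have hx' : x * y * x⁻¹ ∈ T := hx
  obtain ⟨c, hc, s, hs, hcs⟩ := Cfsg.Agent.H858.Abs.exists_mul_of_mem_sup hnorm (Subgroup.inv_mem _ hxH)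
  have hsT : s ∈ T := (le_sup_right : Subgroup.zpowers r ≤ T) hs
  have hxe : x = s⁻¹ * c⁻¹ := by rw [← inv_inv x, hcs, mul_inv_rev]
  have hcT' : c⁻¹ * y * c⁻¹⁻¹ ∈ T := by
    have h1 : c⁻¹ * y * c⁻¹⁻¹ = s * (x * y * x⁻¹) * s⁻¹ := by rw [hxe]; group
    rw [h1]
    exact Subgroup.mul_mem _ (Subgroup.mul_mem _ hsT hx') (Subgroup.inv_mem _ hsT)
  refine ⟨c⁻¹, Subgroup.inv_mem _ hc, ?_⟩
  obtain ⟨i, j, hij⟩ := hTelt _ hcT'
  have hrot : Rot a b (w ^ i * r ^ j) := hij ▸ hy.conj (Subgroup.inv_mem _ hc)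
  have hwi : w ^ i ∈ C2 a b := Subgroup.zpow_mem _ hw i
  have h1 : r⁻¹ * r ^ j ∈ C2 a b := by
    have h2 := hr.mem hrot
    have h3 : r⁻¹ * r ^ j = (w ^ i)⁻¹ * (r⁻¹ * (w ^ i * r ^ j)) := by
      have h4 : Commute r⁻¹ (w ^ i) := (hcw.zpow_left i).symm.inv_left
      calc r⁻¹ * r ^ j = (w ^ i)⁻¹ * (w ^ i * r⁻¹) * r ^ j := by group
        _ = (w ^ i)⁻¹ * (r⁻¹ * w ^ i) * r ^ j := by rw [h4.eq]
        _ = _ := by group
    rw [h3]
    exact Subgroup.mul_mem _ (Subgroup.inv_mem _ hwi) h2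
  have h2 : r⁻¹ * r ^ j ∈ Subgroup.zpowers r :=
    Subgroup.mul_mem _ (Subgroup.inv_mem _ (Subgroup.mem_zpowers r)) (Subgroup.zpow_mem _ (Subgroup.mem_zpowers r) j)
  have h3 : r⁻¹ * r ^ j = 1 := by
    have h4 : r⁻¹ * r ^ j ∈ C2 a b ⊓ Subgroup.zpowers r := ⟨h1, h2⟩
    rw [hinf] at h4
    exact Subgroup.mem_bot.1 h4
  have h4 : r ^ j = r := by
    have h5 : r * (r⁻¹ * r ^ j) = r := by rw [h3, mul_one]
    rwa [mul_inv_cancel_left] at h5
  have h5 : w ^ i * r = r * w ^ i := (hcw.zpow_left i).eq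
  rw [hij, h4, h5]
  have h6 : w ^ i = w ^ (i % 3) := by
    conv_lhs => rw [← Int.emod_add_mul_ediv i 3]
    rw [zpow_add, zpow_mul, show w ^ (3 : ℤ) = w ^ (3 : ℕ) from zpow_natCast w 3, hw3', one_zpow, mul_one]
  have h7 : i % 3 = 0 ∨ i % 3 = 1 ∨ i % 3 = 2 := by omega
  rw [h6]
  rcases h7 with h7 | h7 | h7
  · left; rw [h7, zpow_zero, mul_one]
  · right; left; rw [h7, zpow_one]
  · right; right; rw [h7, show w ^ (2 : ℤ) = w ^ (2 : ℕ) from zpow_natCast w 2, pow_two]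

end Cfsg.Agent.H265.JM.EQ
end

-- part: H265/JM/EQCent
section
/-!
# S5580, Part III, engine (Q): the centralizers of the two pairs (helper265)
-/

set_option autoImplicit false
set_option maxRecDepth 20000

open Cfsg

namespace Cfsg.Agent.H265.JM.EQ

open Cfsg.Agent.Lib Cfsg.Agent.Lib.F2MatGroup
open Cfsg.Agent.J4.Rep112 Cfsg.Agent.J4.LowerData Cfsg.Agent.J4.Beta
open Cfsg.Agent.J4.Classes Cfsg.Agent.J4.ClassesData Cfsg.Agent.J4.ClassesAbs
open Cfsg.Agent.H858.VK Cfsg.Agent.H878.JM.Base Cfsg.Agent.H858.Data Cfsg.Agent.H858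
open Cfsg.Agent.J4.Pres Cfsg.Agent.J4.M24Hom Cfsg.Agent.J4.Lower
open Cfsg.Agent.J4.Nodes (wordG wordP letG)
open Cfsg.Agent.H858.Pent (lin_xor lin_zero)
open Cfsg.Agent.J4.M24InvolData Cfsg.Agent.SporadicStructure.M24El
open Cfsg.Agent.J4.Invol (EJ s d)
open Cfsg.Agent.H860.JM

local notation "𝒢" => Cfsg.Spor.J4

/-- centralizers of 2B elements of `V` -/
theorem cent_le {e : 𝒢} (he : e ∈ EJ) (hd : IsConj d e) {c : 𝒢} (hc : c * e = e * c) :
    c ∈ Subgroup.normalizer (EJ : Set 𝒢) := by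
  obtain ⟨m, hm | hm⟩ := EJ_cases he (sq_of_conj d_mem d_ne hd).1
  · exact absurd ((isConj_iff.2 ⟨phi m, hm.symm⟩).trans hd.symm) Cfsg.Agent.J4.Invol.not_isConj_s_d
  · have h1 : (phi m)⁻¹ * c * phi m ∈ Subgroup.centralizer ({d} : Set 𝒢) := by
      rw [Subgroup.mem_centralizer_singleton_iff]
      rw [hm] at hc
      calc (phi m)⁻¹ * c * phi m * d = (phi m)⁻¹ * (c * (phi m * d * (phi m)⁻¹)) * phi m := by group
        _ = (phi m)⁻¹ * (phi m * d * (phi m)⁻¹ * c) * phi m := by rw [hc]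
        _ = _ := by group
    have h2 := Subgroup.mul_mem _ (Subgroup.mul_mem _ (phi_mem m) (cent_d_le h1)) (Subgroup.inv_mem _ (phi_mem m))
    have h3 : phi m * ((phi m)⁻¹ * c * phi m) * (phi m)⁻¹ = c := by group
    rw [h3] at h2
    exact h2

/-- uniqueness of the decomposition modulo `V` -/
theorem phi_eq_of {e f : 𝒢} (he : e ∈ EJ) (hf : f ∈ EJ) {k m : M24} (h : e * phi k = f * phi m) : k = m := by
  have h1 : phi (k * m⁻¹) = e⁻¹ * f := by
    rw [map_mul, map_inv]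
    calc phi k * (phi m)⁻¹ = e⁻¹ * (e * phi k) * (phi m)⁻¹ := by group
      _ = e⁻¹ * (f * phi m) * (phi m)⁻¹ := by rw [h]
      _ = e⁻¹ * f := by group
  have h2 : phi (k * m⁻¹) = 1 := inf_eq_one _ (h1 ▸ EJ.mul_mem (EJ.inv_mem he) hf) ⟨_, rfl⟩
  have h3 : k * m⁻¹ = 1 := phi_injective (by rw [h2, map_one])
  exact mul_inv_eq_one.1 h3

/-- the shape of an element centralizing the pair -/
theorem cent_form {l a : ℕ} (hl : IsConj d (V l)) {c : 𝒢} (hc : c ∈ C2 (V l) (V a * S1)) :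
    ∃ v < 2048, ∃ k : M24, k * el P1 = el P1 * k ∧ c = V v * phi k := by
  obtain ⟨h1, h2⟩ := mem_C2.1 hc
  have h3 : c ∈ Subgroup.normalizer (EJ : Set 𝒢) := cent_le (V_mem l) hl (mul_inv_eq_iff_eq_mul.1 h1)
  rw [NEJ_eq] at h3
  obtain ⟨e, he, k, hek⟩ := Cfsg.Agent.H858.VK.mem_B.1 h3
  obtain ⟨v, hv, hev⟩ := exists_V he
  refine ⟨v, hv, k, ?_, by rw [hek, hev]⟩
  have h4 : c * (V a * S1) = V a * S1 * c := mul_inv_eq_iff_eq_mul.1 h2
  have h5 : e * (phi k * V a * (phi k)⁻¹) * phi (k * el P1) = V a * (S1 * e * S1⁻¹) * phi (el P1 * k) := by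
    rw [map_mul, map_mul]
    calc e * (phi k * V a * (phi k)⁻¹) * (phi k * phi (el P1)) = (e * phi k) * (V a * S1) := by
          unfold S1; group
      _ = V a * S1 * (e * phi k) := by rw [← hek, h4]
      _ = V a * (S1 * e * S1⁻¹) * (phi (el P1) * phi k) := by unfold S1; group
  exact phi_eq_of (EJ.mul_mem he (conj_mem_N (phi_mem k) (V_mem a)))
    (EJ.mul_mem (V_mem a) (conj_mem_N (phi_mem (el P1)) he)) h5

theorem card_C2 {l a : ℕ} (hl : IsConj d (V l)) : Nat.card (C2 (V l) (V a * S1)) ∣ 2 ^ 21 * 21 := by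
  have hfin := Cfsg.Agent.H858.VK.finite_J4
  set K : Subgroup 𝒢 := (Subgroup.centralizer ({el P1} : Set M24)).map phi with hK
  have hle : C2 (V l) (V a * S1) ≤ EJ ⊔ K := by
    intro c hc
    obtain ⟨v, -, k, hk, e⟩ := cent_form hl hc
    rw [e]
    refine Subgroup.mul_mem _ ((le_sup_left : EJ ≤ EJ ⊔ K) (V_mem v)) ((le_sup_right : K ≤ EJ ⊔ K) ⟨k, ?_, rfl⟩)
    exact Subgroup.mem_centralizer_singleton_iff.2 hk
  have hn : K ≤ Subgroup.normalizer (EJ : Set 𝒢) := by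
    rintro _ ⟨k, -, rfl⟩; exact phi_mem k
  have hi : EJ ⊓ K = ⊥ := by
    rw [eq_bot_iff]
    rintro x ⟨h1, ⟨k, -, h2⟩⟩
    exact Subgroup.mem_bot.2 (inf_eq_one x h1 ⟨k, h2⟩)
  have hcK : Nat.card K = 21504 := by
    rw [hK, ← Cfsg.Agent.KFacts.M24Two.Orders.card_centralizer_z]
    exact (Nat.card_congr ((Subgroup.centralizer ({el P1} : Set M24)).equivMapOfInjective phi phi_injective).toEquiv).symm
  have h := Subgroup.card_dvd_of_le hle
  rw [Cfsg.Agent.H858.Abs.card_sup hn hi, card_EJ, hcK] at h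
  exact h.trans (by norm_num)

theorem not_nine {l a : ℕ} (hl : IsConj d (V l)) : ¬ 9 ∣ Nat.card (C2 (V l) (V a * S1)) := by
  intro h
  have h1 := h.trans (card_C2 (a := a) hl)
  revert h1
  norm_num

/-! ### class II: the centralizer is a 2-group -/

private noncomputable def alE (A : List ℕ) : (ℕ → ℕ → Bool) → Bool :=
  List.rec (fun P => P 0 0) (fun a _ ih P => ih fun u w => frE (Nat.mul 2 u) fun u => frE w fun w =>
    Bool.rec false (P (Nat.succ u) (Nat.xor a w)) (P u w)) A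

private theorem alE_sound (A : List ℕ) : ∀ P : ℕ → ℕ → Bool, alE A P = true → ∀ v < 2 ^ A.length, P v (lin A v) = true := by
  induction A with
  | nil =>
    intro P h v hv
    obtain rfl : v = 0 := Nat.lt_one_iff.1 hv
    exact h
  | cons a A ih =>
    intro P h v hv
    rw [List.length_cons, Nat.pow_succ] at hv
    have h1 := ih _ h (v / 2) (by omega)
    rw [frE_eq, frE_eq] at h1
    have h2 : (Bool.rec false (P (2 * (v / 2) + 1) (a ^^^ lin A (v / 2))) (P (2 * (v / 2)) (lin A (v / 2))) : Bool) = true := h1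
    rw [lin_cons]
    cases h3 : P (2 * (v / 2)) (lin A (v / 2))
    · rw [h3] at h2; exact absurd h2 Bool.false_ne_true
    · rw [h3] at h2
      split_ifs with h4
      · rw [show 2 * (v / 2) + 1 = v by omega] at h2; exact h2
      · rw [show 2 * (v / 2) = v by omega] at h3; exact h3

private theorem alE_all {P : ℕ → ℕ → Bool} (h : alE A1 P = true) : ((List.range 2048).all fun v => P v (lin A1 v)) = true :=
  List.all_eq_true.2 fun v hv => alE_sound A1 P h v (List.mem_range.1 hv)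

theorem can_im : ((List.range 2048).all fun v => Nat.beq (can (v ^^^ lin A1 v)) 0) = true := by
  have h := alE_all (P := fun v w => frE (Nat.xor v w) fun x => Nat.beq (can x) 0) (by decide +kernel)
  simp only [frE_eq] at h
  exact h

/-- membership in `[V, S1]` -/
def InIm (t : 𝒢) : Prop := ∃ e ∈ EJ, t = e * (S1 * e * S1⁻¹)

theorem inIm_V {l : ℕ} (hl : l < 2048) : InIm (V l) ↔ can l = 0 := by
  constructor
  · rintro ⟨e, he, h⟩
    obtain ⟨v, hv, rfl⟩ := exists_V he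
    rw [S1_V, ← V_xor] at h
    have h1 : l = v ^^^ lin A1 v := by
      refine V_inj hl ?_ h
      exact Nat.xor_lt_two_pow (n := 11) hv (lin_lt (by decide) v)
    have h2 := can_im
    rw [List.all_eq_true] at h2
    rw [h1]
    exact Nat.eq_of_beq_eq_true (h2 v (List.mem_range.2 hv))
  · intro h
    obtain ⟨v, hv⟩ := can_spec l
    refine ⟨V v, V_mem v, ?_⟩
    rw [h] at hv
    have h1 : l = v ^^^ lin A1 v := (Nat.xor_eq_zero_iff.1 hv.symm)
    rw [S1_V, ← V_xor, ← h1]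

theorem InIm.conj {x : M24} (hx : x * el P1 = el P1 * x) {t : 𝒢} (h : InIm t) : InIm (phi x * t * (phi x)⁻¹) := by
  obtain ⟨e, he, h⟩ := h
  refine ⟨phi x * e * (phi x)⁻¹, conj_mem_N (phi_mem x) he, ?_⟩
  have h1 : phi x * S1 * (phi x)⁻¹ = S1 := by
    unfold S1
    rw [← map_mul, hx, map_mul, mul_inv_cancel_right]
  rw [h]
  calc phi x * (e * (S1 * e * S1⁻¹)) * (phi x)⁻¹ = phi x * e * (phi x)⁻¹ *
        ((phi x * S1 * (phi x)⁻¹) * (phi x * e * (phi x)⁻¹) * (phi x * S1 * (phi x)⁻¹)⁻¹) := by group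
    _ = _ := by rw [h1]

/-- the check for class II -/
theorem chk2 : (fd.all fun l => Nat.beq (can l) 0 || (!(Nat.beq (lin Mm l) l) || (List.range 2048).all fun a =>
    !(Nat.beq (lin A1 a) a) || (Nat.beq (can a) 0 || (Nat.beq (can (a ^^^ l)) 0 ||
      !(Nat.beq (can (lin Mm a ^^^ a)) 0))))) = true := by
  have h : (fd.all fun l => Nat.beq (can l) 0 || (!(Nat.beq (lin Mm l) l) || alE A1 fun a w =>
      !(Nat.beq w a) || (Nat.beq (can a) 0 || (Nat.beq (can (a ^^^ l)) 0 ||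
        !(Nat.beq (can (lin Mm a ^^^ a)) 0))))) = true := by decide +kernel
  refine List.all_eq_true.2 fun l hl => ?_
  have h1 := List.all_eq_true.1 h l hl
  rw [Bool.or_eq_true, Bool.or_eq_true] at h1 ⊢
  exact h1.imp id fun h2 => h2.imp id alE_all

theorem chk2' {l a : ℕ} (hl : l ∈ fd) (ha : a < 2048) (h1 : can l ≠ 0) (h2 : lin Mm l = l) (h3 : lin A1 a = a)
    (h4 : can a ≠ 0) (h5 : can (a ^^^ l) ≠ 0) : can (lin Mm a ^^^ a) ≠ 0 := by
  have h := chk2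
  rw [List.all_eq_true] at h
  have k1 := h l hl
  rw [Bool.or_eq_true, Nat.beq_eq] at k1
  rcases k1 with k1 | k1
  · exact absurd k1 h1
  rw [h2, Nat.beq_refl, Bool.not_true, Bool.false_or, List.all_eq_true] at k1
  have k2 := k1 a (List.mem_range.2 ha)
  rw [h3, Nat.beq_refl, Bool.not_true, Bool.false_or, Bool.or_eq_true, Nat.beq_eq] at k2
  rcases k2 with k2 | k2
  · exact absurd k2 h4
  rw [Bool.or_eq_true, Nat.beq_eq] at k2
  rcases k2 with k2 | k2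
  · exact absurd k2 h5
  intro h6
  rw [h6] at k2
  exact absurd k2 (by decide)

/-- no element `V u · gm` centralizes a conjugate of the pair II -/
theorem no_gm {x : M24} (hx : x * el P1 = el P1 * x) {u : ℕ} (hd : IsConj d (V 1083))
    (h1 : V u * phi (wordG gm) * (phi x * V 1083 * (phi x)⁻¹) = phi x * V 1083 * (phi x)⁻¹ * (V u * phi (wordG gm)))
    (h2 : V u * phi (wordG gm) * (phi x * (V 1584 * S1) * (phi x)⁻¹) =
      phi x * (V 1584 * S1) * (phi x)⁻¹ * (V u * phi (wordG gm))) : False := by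
  have hS : phi x * S1 * (phi x)⁻¹ = S1 := by
    unfold S1
    rw [← map_mul, hx, map_mul, mul_inv_cancel_right]
  have hxi : x⁻¹ * el P1 = el P1 * x⁻¹ := by
    rw [inv_mul_eq_iff_eq_mul, ← mul_assoc, hx, mul_inv_cancel_right]
  obtain ⟨l, hl, el⟩ := exists_V (conj_mem_N (phi_mem x) (V_mem 1083))
  obtain ⟨a, ha, ea⟩ := exists_V (conj_mem_N (phi_mem x) (V_mem 1584))
  have e2 : phi x * (V 1584 * S1) * (phi x)⁻¹ = V a * S1 := by
    calc phi x * (V 1584 * S1) * (phi x)⁻¹ = (phi x * V 1584 * (phi x)⁻¹) * (phi x * S1 * (phi x)⁻¹) := by group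
      _ = V a * S1 := by rw [ea, hS]
  rw [el] at h1
  rw [e2] at h2
  have back : ∀ {t t' : 𝒢}, phi x * t * (phi x)⁻¹ = t' → InIm t' → InIm t := by
    intro t t' h h'
    have h3 := h'.conj (x := x⁻¹) hxi
    have h4 : phi x⁻¹ * t' * (phi x⁻¹)⁻¹ = t := by rw [← h, map_inv]; group
    rw [h4] at h3
    exact h3
  -- fixed by `S1`
  have hfix : ∀ {m n : ℕ}, n < 2048 → lin A1 m = m → phi x * V m * (phi x)⁻¹ = V n → lin A1 n = n := by
    intro m n hn h3 h4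
    apply V_inj (lin_lt (by decide) n) hn
    rw [← S1_V, ← h4]
    calc S1 * (phi x * V m * (phi x)⁻¹) * S1⁻¹ = phi x * (((phi x)⁻¹ * S1 * phi x) * V m *
          ((phi x)⁻¹ * S1 * phi x)⁻¹) * (phi x)⁻¹ := by group
      _ = phi x * (S1 * V m * S1⁻¹) * (phi x)⁻¹ := by
          have : (phi x)⁻¹ * S1 * phi x = S1 := by
            conv_lhs => rw [← hS]
            group
          rw [this]
      _ = _ := by rw [S1_V, h3]
  have hl1 : lin A1 l = l := hfix hl (by decide +kernel) el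
  have ha1 : lin A1 a = a := hfix ha (by decide +kernel) ea
  have hld : l ∈ duads := mem_duads hl (by rw [← el]; exact isConj_conj hd)
  have hfd : l ∈ fd := by
    have h := fd_ok
    rw [List.all_eq_true] at h
    have h3 := h l hld
    rw [hl1, Nat.beq_refl, Bool.not_true, Bool.false_or, List.contains_iff_mem] at h3
    exact h3
  have c1 : can l ≠ 0 := by
    intro h
    have h3 := (inIm_V (by norm_num)).1 (back el ((inIm_V hl).2 h))
    exact absurd h3 (by decide +kernel)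
  have c2 : can a ≠ 0 := by
    intro h
    have h3 := (inIm_V (by norm_num)).1 (back ea ((inIm_V ha).2 h))
    exact absurd h3 (by decide +kernel)
  have c3 : can (a ^^^ l) ≠ 0 := by
    intro h
    have e3 : phi x * V (1584 ^^^ 1083) * (phi x)⁻¹ = V (a ^^^ l) := by
      rw [V_xor, V_xor, ← ea, ← el]; group
    have h3 := (inIm_V (by decide)).1 (back e3 ((inIm_V (Nat.xor_lt_two_pow (n := 11) ha hl)).2 h))
    exact absurd h3 (by decide +kernel)
  have hm1 : lin Mm l = l := by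
    apply V_inj (lin_lt (by decide) l) hl
    rw [← acts_m.act]
    have h3 : V u * (phi (wordG gm) * V l) = V u * (V l * phi (wordG gm)) := by
      calc V u * (phi (wordG gm) * V l) = V u * phi (wordG gm) * V l := by group
        _ = V l * (V u * phi (wordG gm)) := h1
        _ = (V l * V u) * phi (wordG gm) := by group
        _ = (V u * V l) * phi (wordG gm) := by rw [V_comm]
        _ = _ := by group
    rw [mul_left_cancel h3, mul_inv_cancel_right]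
  apply chk2' hfd ha c1 hm1 ha1 c2 c3
  have h3 : V u * (V (lin Mm a) * S1) * (V u)⁻¹ = V a * S1 := by
    rw [← acts_m.pair]
    calc V u * (phi (wordG gm) * (V a * S1) * (phi (wordG gm))⁻¹) * (V u)⁻¹ =
          (V u * phi (wordG gm) * (V a * S1)) * (V u * phi (wordG gm))⁻¹ := by group
      _ = V a * S1 := by rw [h2, mul_inv_cancel_right]
  rw [V_shift] at h3
  have h4 := mul_right_cancel h3
  refine (inIm_V (Nat.xor_lt_two_pow (n := 11) (lin_lt (by decide) a) ha)).1 ⟨V u, V_mem u, ?_⟩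
  rw [S1_V, ← V_xor, V_xor]
  rw [V_xor] at h4
  rw [← h4]
  rw [← mul_assoc, V_sq, one_mul]

theorem not_three (hd : IsConj d (V 1083)) : ¬ 3 ∣ Nat.card (C2 (V 1083) (V 1584 * S1)) := by
  have hfin := Cfsg.Agent.H858.VK.finite_J4
  have hfact : Fact (Nat.Prime 3) := ⟨Nat.prime_three⟩
  intro h
  obtain ⟨⟨c, hc⟩, hord⟩ := exists_prime_orderOf_dvd_card' 3 h
  rw [Subgroup.orderOf_mk] at hord
  have hc3 : c * c * c = 1 := by
    have h1 := pow_orderOf_eq_one c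
    rw [hord, pow_succ, pow_two] at h1
    exact h1
  have hc1 : c ≠ 1 := by
    rintro rfl
    rw [orderOf_one] at hord
    exact absurd hord (by norm_num)
  obtain ⟨v, hv, k, hk, hck⟩ := cent_form hd hc
  have hk3 : k * k * k = 1 := by
    have h1 : (V v * (phi k * V v * (phi k)⁻¹) * (phi (k * k) * V v * (phi (k * k))⁻¹)) * phi (k * k * k) = 1 * phi 1 := by
      rw [map_one, mul_one, ← hc3, hck]
      simp only [map_mul]
      group
    exact phi_eq_of (EJ.mul_mem (EJ.mul_mem (V_mem v) (conj_mem_N (phi_mem k) (V_mem v)))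
      (conj_mem_N (phi_mem _) (V_mem v))) (EJ.one_mem) h1
  have hk1 : k ≠ 1 := by
    rintro rfl
    apply hc1
    rw [map_one, mul_one] at hck
    rw [hck, V_sq, one_mul, ← hck] at hc3
    exact hc3
  -- Sylow in the centralizer of `el P1`
  set Z : Subgroup M24 := Subgroup.centralizer ({el P1} : Set M24) with hZ
  have hcZ : Nat.card Z = 21504 := Cfsg.Agent.KFacts.M24Two.Orders.card_centralizer_z
  have hgZ : wordG gm ∈ Z := Subgroup.mem_centralizer_singleton_iff.2 comm_gm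
  have hkZ : k ∈ Z := Subgroup.mem_centralizer_singleton_iff.2 hk
  have hog : orderOf (wordG gm) = 3 := orderOf_eq_prime gm_cube gm_ne
  set P : Subgroup M24 := Subgroup.zpowers (wordG gm) with hP
  have hPZ : P ≤ Z := by rw [hP, Subgroup.zpowers_le]; exact hgZ
  have hcP : Nat.card P = 3 := by rw [hP, Nat.card_zpowers, hog]
  have hp : IsPGroup 3 (P.subgroupOf Z) := by
    apply IsPGroup.of_card (n := 1)
    rw [Nat.card_congr (Subgroup.subgroupOfEquivOfLe hPZ).toEquiv, hcP, pow_one]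
  have hidx : ¬ 3 ∣ (P.subgroupOf Z).index := by
    intro h
    have h1 := (P.subgroupOf Z).card_mul_index
    rw [Nat.card_congr (Subgroup.subgroupOfEquivOfLe hPZ).toEquiv, hcP, hcZ] at h1
    have h2 : (P.subgroupOf Z).index = 7168 := by omega
    rw [h2] at h
    revert h
    norm_num
  have hk3' : (⟨k, hkZ⟩ : Z) ^ 3 ^ 1 = 1 := by
    apply Subtype.ext
    show k ^ 3 ^ 1 = 1
    rw [pow_one, pow_succ, pow_two]; exact hk3
  obtain ⟨⟨x, hxZ⟩, hx⟩ := Cfsg.Agent.H859.SylEleven.exists_conj_mem hp hidx ⟨1, hk3'⟩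
  have hx' : x * k * x⁻¹ ∈ P := hx
  have hxc : x * el P1 = el P1 * x := Subgroup.mem_centralizer_singleton_iff.1 hxZ
  have hne : x * k * x⁻¹ ≠ 1 := by
    intro h
    apply hk1
    have h1 : k = x⁻¹ * (x * k * x⁻¹) * x := by group
    rw [h1, h]; group
  have hcases : x * k * x⁻¹ = wordG gm ∨ x * k⁻¹ * x⁻¹ = wordG gm := by
    obtain ⟨i, hi⟩ := hx'
    have hi' : (wordG gm) ^ i = x * k * x⁻¹ := hi
    have h6 : (wordG gm) ^ i = (wordG gm) ^ (i % 3) := by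
      conv_lhs => rw [← Int.emod_add_mul_ediv i 3]
      rw [zpow_add, zpow_mul, show (wordG gm) ^ (3 : ℤ) = (wordG gm) ^ (3 : ℕ) from zpow_natCast _ 3, gm_cube, one_zpow,
        mul_one]
    have h7 : i % 3 = 0 ∨ i % 3 = 1 ∨ i % 3 = 2 := by omega
    rw [h6] at hi'
    rcases h7 with h7 | h7 | h7
    · rw [h7, zpow_zero] at hi'
      exact absurd hi'.symm hne
    · rw [h7, zpow_one] at hi'
      exact Or.inl hi'.symm
    · right
      rw [h7, show (wordG gm) ^ (2 : ℤ) = (wordG gm) ^ (2 : ℕ) from zpow_natCast _ 2] at hi'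
      have h8 : x * k⁻¹ * x⁻¹ = (x * k * x⁻¹)⁻¹ := by group
      rw [h8, ← hi']
      have h9 := gm_cube
      rw [pow_succ] at h9
      exact inv_eq_of_mul_eq_one_right h9
  -- a centralizing element `V u * phi k'` with `x k' x⁻¹ = gm`
  have key : ∀ (c : 𝒢) (k : M24) (v : ℕ), c ∈ C2 (V 1083) (V 1584 * S1) → c = V v * phi k → x * k * x⁻¹ = wordG gm →
      False := by
    intro c k v hc hck hxk
    obtain ⟨m1, m2⟩ := mem_C2.1 hc
    obtain ⟨u, -, hu⟩ := exists_V (conj_mem_N (phi_mem x) (V_mem v))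
    have e : V u * phi (wordG gm) = phi x * c * (phi x)⁻¹ := by
      rw [← hu, ← hxk, hck, map_mul, map_mul, map_inv]; group
    have n1 : c * V 1083 = V 1083 * c := mul_inv_eq_iff_eq_mul.1 m1
    have n2 : c * (V 1584 * S1) = V 1584 * S1 * c := mul_inv_eq_iff_eq_mul.1 m2
    apply no_gm hxc (u := u) hd
    · rw [e]
      calc phi x * c * (phi x)⁻¹ * (phi x * V 1083 * (phi x)⁻¹) = phi x * (c * V 1083) * (phi x)⁻¹ := by group
        _ = phi x * (V 1083 * c) * (phi x)⁻¹ := by rw [n1]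
        _ = _ := by group
    · rw [e]
      calc phi x * c * (phi x)⁻¹ * (phi x * (V 1584 * S1) * (phi x)⁻¹) = phi x * (c * (V 1584 * S1)) * (phi x)⁻¹ := by
            group
        _ = phi x * (V 1584 * S1 * c) * (phi x)⁻¹ := by rw [n2]
        _ = _ := by group
  rcases hcases with h1 | h1
  · exact key c k v hc hck h1
  · obtain ⟨v', -, k', -, hck'⟩ := cent_form hd (Subgroup.inv_mem _ hc)
    have h2 : k' = k⁻¹ := by
      have h3 : V v' * phi k' = (phi k⁻¹ * V v * (phi k⁻¹)⁻¹) * phi k⁻¹ := by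
        rw [← hck', hck, map_inv, mul_inv_rev, V_inv]; group
      exact phi_eq_of (V_mem v') (conj_mem_N (phi_mem _) (V_mem v)) h3
    exact key c⁻¹ k' v' (Subgroup.inv_mem _ hc) hck' (by rw [h2]; exact h1)

end Cfsg.Agent.H265.JM.EQ
end

-- part: H265/JM/EQ
section
/-!
# S5580, Part III, engine (Q) (helper265)

`Q` : an involution `v` of class 2B of `V` and an element `y` of order 3 with `(v y)³ = 1`, `y v y⁻¹ ∉ V` : the pair
`(y, v)` is conjugate to one of `(y0, v4)`, `(y0, v6)`, `(y0, v9)`.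
-/

set_option autoImplicit false
set_option maxRecDepth 20000

open Cfsg

namespace Cfsg.Agent.H265.JM.EQ

open Cfsg.Agent.Lib Cfsg.Agent.Lib.F2MatGroup
open Cfsg.Agent.J4.Rep112 Cfsg.Agent.J4.LowerData Cfsg.Agent.J4.Beta
open Cfsg.Agent.J4.Classes Cfsg.Agent.J4.ClassesData Cfsg.Agent.J4.ClassesAbs
open Cfsg.Agent.H858.VK Cfsg.Agent.H878.JM.Base Cfsg.Agent.H858.Data Cfsg.Agent.H858
open Cfsg.Agent.J4.Pres Cfsg.Agent.J4.M24Hom Cfsg.Agent.J4.Lower
open Cfsg.Agent.J4.M24InvolData Cfsg.Agent.SporadicStructure.M24El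
open Cfsg.Agent.J4.Invol (EJ s d)
open Cfsg.Agent.H860.JM

local notation "𝒢" => Cfsg.Spor.J4

/-! ### the abstract configuration -/

section abs

variable {G : Type*} [Group G]

theorem rot_of {v y : G} (hv : v * v = 1) (hy : y * y * y = 1) (h : v * y * (v * y) * (v * y) = 1) :
    Rot v (y * v * y⁻¹) y ∧ v * (y * v * y⁻¹) = y * v * y⁻¹ * v := by
  have hy3 : y * y = y⁻¹ := eq_inv_of_mul_eq_one_left hy
  have e1 : v * (y * v * y⁻¹) * (y * (y * v * y⁻¹) * y⁻¹) = 1 := by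
    calc v * (y * v * y⁻¹) * (y * (y * v * y⁻¹) * y⁻¹) = (v * y * (v * y) * (v * y)) * (y * y * y)⁻¹ := by group
      _ = 1 := by rw [h, hy]; group
  have e2 : y * (y * v * y⁻¹) * y⁻¹ * (y * (y * v * y⁻¹) * y⁻¹) = 1 := by
    calc y * (y * v * y⁻¹) * y⁻¹ * (y * (y * v * y⁻¹) * y⁻¹) = y * (y * (v * v) * y⁻¹) * y⁻¹ := by group
      _ = 1 := by rw [hv]; group
  have e3 : y * (y * v * y⁻¹) * y⁻¹ = v * (y * v * y⁻¹) := by
    rw [← inv_eq_of_mul_eq_one_left e2, ← eq_inv_of_mul_eq_one_left e1]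
  have e4 : y * v * y⁻¹ * (y * v * y⁻¹) = 1 := by
    calc y * v * y⁻¹ * (y * v * y⁻¹) = y * (v * v) * y⁻¹ := by group
      _ = 1 := by rw [hv]; group
  refine ⟨⟨rfl, e3⟩, ?_⟩
  have e5 : v * (y * v * y⁻¹) * (v * (y * v * y⁻¹)) = 1 := by rw [← e3]; exact e2
  have e6 : (v * (y * v * y⁻¹))⁻¹ = y * v * y⁻¹ * v := by
    rw [mul_inv_rev, inv_eq_of_mul_eq_one_left hv, inv_eq_of_mul_eq_one_left e4]
  rw [← e6]
  exact eq_inv_of_mul_eq_one_left e5

theorem Rot.map {a b y : G} (h : Rot a b y) (g : G) : Rot (g * a * g⁻¹) (g * b * g⁻¹) (g * y * g⁻¹) := by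
  constructor
  · calc g * y * g⁻¹ * (g * a * g⁻¹) * (g * y * g⁻¹)⁻¹ = g * (y * a * y⁻¹) * g⁻¹ := by group
      _ = _ := by rw [h.one]
  · calc g * y * g⁻¹ * (g * b * g⁻¹) * (g * y * g⁻¹)⁻¹ = g * (y * b * y⁻¹) * g⁻¹ := by group
      _ = g * a * g⁻¹ * (g * b * g⁻¹) := by rw [h.two]; group

/-- the standard pair : `(y0, v)` conjugated by `g` -/
theorem rot_std {y v g h r a b : G} (hgh : g * h = 1) (hr : r = g * (y * h)) (ha : g * v = a * g)
    (hb : g * (y * v) = b * (g * y)) (hv : v * v = 1) (hy : y * y * y = 1) (hvy : v * y * (v * y) * (v * y) = 1) :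
    Rot a b r ∧ r * r * r = 1 ∧ h = g⁻¹ := by
  have hh : h = g⁻¹ := eq_inv_of_mul_eq_one_right hgh
  have hr' : r = g * y * g⁻¹ := by rw [hr, hh, mul_assoc]
  have ha' : a = g * v * g⁻¹ := by rw [ha, mul_inv_cancel_right]
  have hb' : b = g * (y * v * y⁻¹) * g⁻¹ := by
    have : b = g * (y * v) * (g * y)⁻¹ := by rw [hb, mul_inv_cancel_right]
    rw [this]; group
  refine ⟨?_, ?_, hh⟩
  · rw [ha', hb', hr']
    exact (rot_of hv hy hvy).1.map g
  · rw [hr']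
    calc g * y * g⁻¹ * (g * y * g⁻¹) * (g * y * g⁻¹) = g * (y * y * y) * g⁻¹ := by group
      _ = 1 := by rw [hy]; group

end abs

/-! ### the equations -/

theorem y0c : y0 * y0 * y0 = 1 := by rw [mul_assoc]; exact y0_cube
theorem vy4 : v4 * y0 * (v4 * y0) * (v4 * y0) = 1 := by
  have h := v4_y0
  simp only [mul_assoc] at h ⊢
  exact h
theorem vy6 : v6 * y0 * (v6 * y0) * (v6 * y0) = 1 := by
  have h := v6_y0
  simp only [mul_assoc] at h ⊢
  exact h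
theorem vy9 : v9 * y0 * (v9 * y0) * (v9 * y0) = 1 := by
  have h := v9_y0
  simp only [mul_assoc] at h ⊢
  exact h

theorem iy0 : getG LE 38 = y0 := getG_LE 18
theorem iv4 : getG LE 25 = v4 := getG_LE 5
theorem iv6 : getG LE 23 = v6 := getG_LE 3
theorem iv9 : getG LE 20 = v9 := getG_LE 0

theorem w433 : evG LE [39, 43, 44, 46, 47] = V 433 := evG_be 433
theorem w1083 : evG LE [39, 40, 42, 43, 44, 49] = V 1083 := evG_be 1083
theorem w517 : evG LE [39, 41, 48, 19] = V 517 * S1 := by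
  have h : evG LE [39, 41, 48] = V 517 := evG_be 517
  rw [← h, ← S1_eq]
  simp only [evG_cons, evG_nil, mul_one, mul_assoc]
theorem w1584 : evG LE [43, 44, 48, 49, 19] = V 1584 * S1 := by
  have h : evG LE [43, 44, 48, 49] = V 1584 := evG_be 1584
  rw [← h, ← S1_eq]
  simp only [evG_cons, evG_nil, mul_one, mul_assoc]

theorem evp (a b : List ℕ) : evG LE (a ++ b) = evG LE a * evG LE b := evG_append _ a b
theorem ev1 (i : ℕ) : evG LE [i] = getG LE i := by rw [evG_cons, evG_nil, mul_one]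
theorem ev2 (i j : ℕ) : evG LE [i, j] = getG LE i * getG LE j := by rw [evG_cons, ev1]
theorem ev3 (i j k : ℕ) : evG LE [i, j, k] = getG LE i * (getG LE j * getG LE k) := by rw [evG_cons, ev2]
theorem ev4 (i j k l : ℕ) : evG LE [i, j, k, l] = getG LE i * (getG LE j * (getG LE k * getG LE l)) := by
  rw [evG_cons, ev3]

theorem std4 : Rot (V 1083) (V 1584 * S1) (getG LE 15) ∧ getG LE 15 * getG LE 15 * getG LE 15 = 1 ∧
    getG LE 16 = (getG LE 17)⁻¹ := by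
  refine rot_std (y := y0) (v := v4) (g := getG LE 17) (h := getG LE 16) ?_ ?_ ?_ ?_ v4_sq y0c vy4
  · have h := eqE (a := [17, 16]) (b := []) (by decide +kernel)
    rwa [ev2, evG_nil] at h
  · have h := eqE (a := [15]) (b := [17, 38, 16]) (by decide +kernel)
    rwa [ev1, ev3, iy0] at h
  · have h := eqE (a := [17, 25]) (b := [39, 40, 42, 43, 44, 49] ++ [17]) (by decide +kernel)
    rwa [ev2, evp, w1083, ev1, iv4] at h
  · have h := eqE (a := [17, 38, 25]) (b := [43, 44, 48, 49, 19] ++ [17, 38]) (by decide +kernel)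
    rwa [ev3, evp, w1584, ev2, iv4, iy0] at h

theorem std6 : Rot (V 433) (V 517 * S1) (getG LE 11) ∧ getG LE 11 * getG LE 11 * getG LE 11 = 1 ∧
    getG LE 12 = (getG LE 13)⁻¹ := by
  refine rot_std (y := y0) (v := v6) (g := getG LE 13) (h := getG LE 12) ?_ ?_ ?_ ?_ v6_sq y0c vy6
  · have h := eqE (a := [13, 12]) (b := []) (by decide +kernel)
    rwa [ev2, evG_nil] at h
  · have h := eqE (a := [11]) (b := [13, 38, 12]) (by decide +kernel)
    rwa [ev1, ev3, iy0] at h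
  · have h := eqE (a := [13, 23]) (b := [39, 43, 44, 46, 47] ++ [13]) (by decide +kernel)
    rwa [ev2, evp, w433, ev1, iv6] at h
  · have h := eqE (a := [13, 38, 23]) (b := [39, 41, 48, 19] ++ [13, 38]) (by decide +kernel)
    rwa [ev3, evp, w517, ev2, iv6, iy0] at h

theorem std9 : Rot (V 433) (V 517 * S1) (getG LE 7) ∧ getG LE 7 * getG LE 7 * getG LE 7 = 1 ∧
    getG LE 8 = (getG LE 9)⁻¹ := by
  refine rot_std (y := y0) (v := v9) (g := getG LE 9) (h := getG LE 8) ?_ ?_ ?_ ?_ v9_sq y0c vy9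
  · have h := eqE (a := [9, 8]) (b := []) (by decide +kernel)
    rwa [ev2, evG_nil] at h
  · have h := eqE (a := [7]) (b := [9, 38, 8]) (by decide +kernel)
    rwa [ev1, ev3, iy0] at h
  · have h := eqE (a := [9, 20]) (b := [39, 43, 44, 46, 47] ++ [9]) (by decide +kernel)
    rwa [ev2, evp, w433, ev1, iv9] at h
  · have h := eqE (a := [9, 38, 20]) (b := [39, 41, 48, 19] ++ [9, 38]) (by decide +kernel)
    rwa [ev3, evp, w517, ev2, iv9, iy0] at h

theorem memC {i : ℕ} (h1 : ([i] ++ [39, 43, 44, 46, 47], [39, 43, 44, 46, 47] ++ [i]) ∈ esE)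
    (h2 : ([i] ++ [39, 41, 48, 19], [39, 41, 48, 19] ++ [i]) ∈ esE) : getG LE i ∈ C2 (V 433) (V 517 * S1) := by
  have e1 := eqE h1
  have e2 := eqE h2
  rw [evp, evp, ev1, w433] at e1
  rw [evp, evp, ev1, w517] at e2
  rw [mem_C2, e1, e2, mul_inv_cancel_right, mul_inv_cancel_right]
  exact ⟨rfl, rfl⟩

theorem W_mem : getG LE 6 ∈ C2 (V 433) (V 517 * S1) := memC (by decide +kernel) (by decide +kernel)
theorem K1_mem : getG LE 5 ∈ C2 (V 433) (V 517 * S1) := memC (by decide +kernel) (by decide +kernel)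
theorem K2_mem : getG LE 4 ∈ C2 (V 433) (V 517 * S1) := memC (by decide +kernel) (by decide +kernel)

theorem W_cube : getG LE 6 * getG LE 6 * getG LE 6 = 1 := by
  have h := eqE (a := [6, 6, 6]) (b := []) (by decide +kernel)
  rw [ev3, evG_nil] at h
  rw [mul_assoc]; exact h

theorem W_r6 : getG LE 6 * getG LE 11 = getG LE 11 * getG LE 6 := by
  have h := eqE (a := [6, 11]) (b := [11, 6]) (by decide +kernel)
  rwa [ev2, ev2] at h

theorem K1_r6 : getG LE 5 * (getG LE 11 * getG LE 6) = getG LE 7 * getG LE 5 := by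
  have h := eqE (a := [5, 11, 6]) (b := [7, 5]) (by decide +kernel)
  rwa [ev3, ev2] at h

theorem K2_r6 : getG LE 4 * (getG LE 11 * (getG LE 6 * getG LE 6)) = getG LE 7 * getG LE 4 := by
  have h := eqE (a := [4, 11, 6, 6]) (b := [7, 4]) (by decide +kernel)
  rwa [ev4, ev2] at h

theorem i6 : getG LE 13 * v6 = V 433 * getG LE 13 := by
  have h := eqE (a := [13, 23]) (b := [39, 43, 44, 46, 47] ++ [13]) (by decide +kernel)
  rwa [ev2, evp, w433, ev1, iv6] at h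
theorem r6 : getG LE 11 = getG LE 13 * y0 * (getG LE 13)⁻¹ := by
  have h := eqE (a := [11]) (b := [13, 38, 12]) (by decide +kernel)
  rw [ev1, ev3, iy0, std6.2.2] at h
  rw [h, mul_assoc]
theorem i9 : getG LE 9 * v9 = V 433 * getG LE 9 := by
  have h := eqE (a := [9, 20]) (b := [39, 43, 44, 46, 47] ++ [9]) (by decide +kernel)
  rwa [ev2, evp, w433, ev1, iv9] at h
theorem r9 : getG LE 7 = getG LE 9 * y0 * (getG LE 9)⁻¹ := by
  have h := eqE (a := [7]) (b := [9, 38, 8]) (by decide +kernel)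
  rw [ev1, ev3, iy0, std9.2.2] at h
  rw [h, mul_assoc]
theorem i4 : getG LE 17 * v4 = V 1083 * getG LE 17 := by
  have h := eqE (a := [17, 25]) (b := [39, 40, 42, 43, 44, 49] ++ [17]) (by decide +kernel)
  rwa [ev2, evp, w1083, ev1, iv4] at h
theorem r4 : getG LE 15 = getG LE 17 * y0 * (getG LE 17)⁻¹ := by
  have h := eqE (a := [15]) (b := [17, 38, 16]) (by decide +kernel)
  rw [ev1, ev3, iy0, std4.2.2] at h
  rw [h, mul_assoc]

theorem V_ne {l : ℕ} (hl : l < 2048) (h0 : l ≠ 0) : V l ≠ 1 := by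
  intro h
  rw [← V_zero] at h
  exact h0 (V_inj hl (by norm_num) h)

/-- transport back to the standard pair -/
theorem back {v y k G v' a : 𝒢} (h1 : k * y * k⁻¹ = G * y0 * G⁻¹) (h2 : k * v * k⁻¹ = a) (h3 : G * v' = a * G) :
    (G⁻¹ * k) * y * (G⁻¹ * k)⁻¹ = y0 ∧ (G⁻¹ * k) * v * (G⁻¹ * k)⁻¹ = v' := by
  constructor
  · calc (G⁻¹ * k) * y * (G⁻¹ * k)⁻¹ = G⁻¹ * (k * y * k⁻¹) * G := by group
      _ = y0 := by rw [h1]; group
  · calc (G⁻¹ * k) * v * (G⁻¹ * k)⁻¹ = G⁻¹ * ((k * v * k⁻¹) * G) := by group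
      _ = v' := by rw [h2, ← h3, inv_mul_cancel_left]

/-- **(Q)** -/
theorem Q {v y : Spor.J4} (hB : IsConj d v) (hv : v ∈ EJ) (hy : y * y * y = 1)
    (hvy : v * y * (v * y) * (v * y) = 1) (hn : y * v * y⁻¹ ∉ EJ) :
    ∃ g, g * y * g⁻¹ = y0 ∧ (g * v * g⁻¹ = v4 ∨ g * v * g⁻¹ = v6 ∨ g * v * g⁻¹ = v9) := by
  have hfin := Cfsg.Agent.H858.VK.finite_J4
  have hv2 : v * v = 1 := (sq_of_conj d_mem d_ne hB).2
  obtain ⟨hrot, hcomm⟩ := rot_of hv2 hy hvy
  have c2 : IsConj d (y * v * y⁻¹) := isConj_conj hB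
  have c3 : IsConj d (v * (y * v * y⁻¹)) := by rw [← hrot.two]; exact isConj_conj c2
  have hN : y * v * y⁻¹ ∈ Subgroup.normalizer (EJ : Set 𝒢) := cent_le hv hB hcomm.symm
  have hb2 : y * v * y⁻¹ * (y * v * y⁻¹) = 1 := (sq_of_conj d_mem d_ne c2).2
  obtain ⟨g, ⟨g1, g2⟩ | ⟨g1, g2⟩⟩ := pair_cases hv hN hn hcomm hB c2 c3
  · -- class I
    have hr := hrot.map g
    rw [g1, g2] at hr
    have hd : IsConj d (V 433) := by rw [← g1]; exact isConj_conj hB
    have hy' : g * y * g⁻¹ * (g * y * g⁻¹) * (g * y * g⁻¹) = 1 := by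
      calc g * y * g⁻¹ * (g * y * g⁻¹) * (g * y * g⁻¹) = g * (y * y * y) * g⁻¹ := by group
        _ = 1 := by rw [hy]; group
    have hb : V 517 * S1 * (V 517 * S1) = 1 := by
      rw [← g2]
      calc g * (y * v * y⁻¹) * g⁻¹ * (g * (y * v * y⁻¹) * g⁻¹) = g * (y * v * y⁻¹ * (y * v * y⁻¹)) * g⁻¹ := by group
        _ = 1 := by rw [hb2]; group
    have hab : V 433 * (V 517 * S1) = V 517 * S1 * V 433 := by
      rw [← g2, ← g1]
      calc g * v * g⁻¹ * (g * (y * v * y⁻¹) * g⁻¹) = g * (v * (y * v * y⁻¹)) * g⁻¹ := by group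
        _ = g * (y * v * y⁻¹ * v) * g⁻¹ := by rw [hcomm]
        _ = _ := by group
    have hcW : Nat.card (Subgroup.zpowers (getG LE 6)) = 3 := by
      have : Fact (Nat.Prime 3) := ⟨Nat.prime_three⟩
      rw [Nat.card_zpowers]
      exact orderOf_eq_prime (by rw [pow_succ, pow_two]; exact W_cube) soundE.2
    obtain ⟨c, hc, h⟩ := rot_conj (V_ne (by norm_num) (by norm_num)) (V_sq 433) hb hab std6.1 std6.2.1 W_mem W_cube
      W_r6 (by rw [hcW]; exact not_nine hd) hr hy'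
    have hcV : c * V 433 * c⁻¹ = V 433 := (mem_C2.1 hc).1
    have m1 : ∀ k : 𝒢, k ∈ C2 (V 433) (V 517 * S1) → (k * c * g) * v * (k * c * g)⁻¹ = V 433 := by
      intro k hk
      calc (k * c * g) * v * (k * c * g)⁻¹ = k * (c * (g * v * g⁻¹) * c⁻¹) * k⁻¹ := by group
        _ = V 433 := by rw [g1, hcV, (mem_C2.1 hk).1]
    have m2 : ∀ k : 𝒢, (k * c * g) * y * (k * c * g)⁻¹ = k * (c * (g * y * g⁻¹) * c⁻¹) * k⁻¹ := by
      intro k; group
    rcases h with h | h | h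
    · have n1 := m2 1
      rw [h, r6, one_mul, inv_one, mul_one] at n1
      obtain ⟨b1, b2⟩ := back n1 (by have := m1 1 (Subgroup.one_mem _); rwa [one_mul] at this) i6
      exact ⟨_, b1, Or.inr (Or.inl b2)⟩
    · have n1 := m2 (getG LE 5)
      rw [h, K1_r6, mul_inv_cancel_right, r9] at n1
      obtain ⟨b1, b2⟩ := back n1 (m1 _ K1_mem) i9
      exact ⟨_, b1, Or.inr (Or.inr b2)⟩
    · have n1 := m2 (getG LE 4)
      rw [h, K2_r6, mul_inv_cancel_right, r9] at n1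
      obtain ⟨b1, b2⟩ := back n1 (m1 _ K2_mem) i9
      exact ⟨_, b1, Or.inr (Or.inr b2)⟩
  · -- class II
    have hr := hrot.map g
    rw [g1, g2] at hr
    have hd : IsConj d (V 1083) := by rw [← g1]; exact isConj_conj hB
    have hy' : g * y * g⁻¹ * (g * y * g⁻¹) * (g * y * g⁻¹) = 1 := by
      calc g * y * g⁻¹ * (g * y * g⁻¹) * (g * y * g⁻¹) = g * (y * y * y) * g⁻¹ := by group
        _ = 1 := by rw [hy]; group
    have hb : V 1584 * S1 * (V 1584 * S1) = 1 := by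
      rw [← g2]
      calc g * (y * v * y⁻¹) * g⁻¹ * (g * (y * v * y⁻¹) * g⁻¹) = g * (y * v * y⁻¹ * (y * v * y⁻¹)) * g⁻¹ := by group
        _ = 1 := by rw [hb2]; group
    have hab : V 1083 * (V 1584 * S1) = V 1584 * S1 * V 1083 := by
      rw [← g2, ← g1]
      calc g * v * g⁻¹ * (g * (y * v * y⁻¹) * g⁻¹) = g * (v * (y * v * y⁻¹)) * g⁻¹ := by group
        _ = g * (y * v * y⁻¹ * v) * g⁻¹ := by rw [hcomm]
        _ = _ := by group
    have hC : ¬ 3 * Nat.card (Subgroup.zpowers (1 : 𝒢)) ∣ Nat.card (C2 (V 1083) (V 1584 * S1)) := by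
      rw [Subgroup.zpowers_one_eq_bot, Subgroup.card_bot, mul_one]
      exact not_three hd
    obtain ⟨c, hc, h⟩ := rot_conj (V_ne (by norm_num) (by norm_num)) (V_sq 1083) hb hab std4.1 std4.2.1
      (Subgroup.one_mem _) (by rw [one_mul, one_mul]) (by rw [one_mul, mul_one]) hC hr hy'
    have h' : c * (g * y * g⁻¹) * c⁻¹ = getG LE 15 := by
      rcases h with h | h | h
      · exact h
      · rw [h, mul_one]
      · rw [h, one_mul, mul_one]
    have hcV : c * V 1083 * c⁻¹ = V 1083 := (mem_C2.1 hc).1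
    have n1 : (c * g) * y * (c * g)⁻¹ = getG LE 17 * y0 * (getG LE 17)⁻¹ := by
      rw [← r4, ← h']; group
    have n2 : (c * g) * v * (c * g)⁻¹ = V 1083 := by
      calc (c * g) * v * (c * g)⁻¹ = c * (g * v * g⁻¹) * c⁻¹ := by group
        _ = V 1083 := by rw [g1, hcV]
    obtain ⟨b1, b2⟩ := back n1 n2 i4
    exact ⟨_, b1, Or.inl b2⟩

end Cfsg.Agent.H265.JM.EQ
end

-- part: H761/JM/GeoRed
section
/-!
# A4-subgroups and points: geometric reduction
-/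

set_option autoImplicit false

namespace Cfsg.Agent.H761.JM

open Cfsg.Agent.H860.JM

variable {G : Type*} [Group G] {Γ : Geom G}

theorem cj_cj' (g h : G) (P : Subgroup G) : cj g (cj h P) = cj (g * h) P := by
  ext x
  constructor
  · rintro ⟨_, ⟨z, hz, rfl⟩, rfl⟩
    refine ⟨z, hz, ?_⟩
    show g * h * z * (g * h)⁻¹ = g * (h * z * h⁻¹) * g⁻¹
    group
  · rintro ⟨z, hz, rfl⟩
    refine ⟨h * z * h⁻¹, ⟨z, hz, rfl⟩, ?_⟩
    show g * (h * z * h⁻¹) * g⁻¹ = g * h * z * (g * h)⁻¹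
    group

theorem cj_one' (P : Subgroup G) : cj 1 P = P := by
  ext x
  constructor
  · rintro ⟨z, hz, rfl⟩
    have : (MulAut.conj (1 : G)).toMonoidHom z = z := by
      show 1 * z * (1 : G)⁻¹ = z
      group
    rw [this]; exact hz
  · intro h
    refine ⟨x, h, ?_⟩
    show 1 * x * (1 : G)⁻¹ = x
    group

theorem mem_cj_of {g x : G} {P : Subgroup G} (h : x ∈ P) : g * x * g⁻¹ ∈ cj g P := ⟨x, h, rfl⟩

theorem mem_normalizer_of_cj {g : G} {P : Subgroup G} (h : cj g P = P) :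
    g ∈ Subgroup.normalizer (P : Set G) := by
  rw [Subgroup.mem_normalizer_iff]
  intro x
  constructor
  · intro hx
    have := mem_cj_of (g := g) hx
    rwa [h] at this
  · intro hx
    rw [← h] at hx
    obtain ⟨z, hz, hzx⟩ := hx
    have h1 : g * z * g⁻¹ = g * x * g⁻¹ := hzx
    have h2 : z = x := mul_left_cancel (mul_right_cancel h1)
    exact h2 ▸ hz

/-- the relations of an A4-subgroup -/
structure A4 (v y : G) : Prop where
  vne : v ≠ 1
  vsq : v * v = 1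
  y3 : y * y * y = 1
  vy : v * y * (v * y) * (v * y) = 1

theorem A4.yne {v y : G} (h : A4 v y) : y ≠ 1 := by
  rintro rfl
  have h1 := h.vy
  rw [mul_one, h.vsq, one_mul] at h1
  exact h.vne h1

/-- the conjugates of `v` -/
theorem A4.facts {v y : G} (h : A4 v y) :
    y * (y * v * y⁻¹) * y⁻¹ = v * (y * v * y⁻¹) ∧ v * (y * v * y⁻¹) = (y * v * y⁻¹) * v ∧
    y * (v * (y * v * y⁻¹)) * y⁻¹ = v := by
  have hy3 := h.y3
  have hvy := h.vy
  have hv2 := h.vsq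
  have hyi : y⁻¹ = y * y := inv_eq_of_mul_eq_one_left hy3
  have e1 : v * (y * v * y⁻¹) * (y * (y * v * y⁻¹) * y⁻¹) = 1 := by
    have : v * (y * v * y⁻¹) * (y * (y * v * y⁻¹) * y⁻¹) =
        v * y * (v * y) * (v * y) * (y * y * y)⁻¹ := by group
    rw [this, hvy, hy3, one_mul, inv_one]
  have hvi : v⁻¹ = v := inv_eq_of_mul_eq_one_left hv2
  have hw : ∀ g : G, (g * v * g⁻¹)⁻¹ = g * v * g⁻¹ := fun g => by
    have : (g * v * g⁻¹)⁻¹ = g * v⁻¹ * g⁻¹ := by group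
    rw [this, hvi]
  set b := y * v * y⁻¹ with hb
  have hb' : b⁻¹ = b := hw y
  have hc : y * b * y⁻¹ = (v * b)⁻¹ := (inv_eq_of_mul_eq_one_right e1).symm
  have hc' : (y * b * y⁻¹)⁻¹ = y * b * y⁻¹ := by
    have : y * b * y⁻¹ = (y * y) * v * (y * y)⁻¹ := by rw [hb]; group
    rw [this]; exact hw _
  have h1 : v * b = y * b * y⁻¹ := by
    rw [← hc', hc, inv_inv]
  have h2 : v * b = b * v := by
    have h3 : (v * b)⁻¹ = v * b := by rw [← hc, h1]
    rw [← h3, mul_inv_rev, hb', hvi]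
  refine ⟨h1.symm, h2, ?_⟩
  rw [h1, hb]
  have : y * (y * (y * v * y⁻¹) * y⁻¹) * y⁻¹ = (y * y * y) * v * (y * y * y)⁻¹ := by group
  rw [this, hy3]; group

/-- **an A4-subgroup `⟨v, y⟩`**: `y` normalizes a point containing `v`, or `v` is of class 2B and
its conjugate is not in the point of `v`. -/
theorem geo_red (f1 : F1 Γ) (f4 : F4 Γ) (f5 : F5 Γ) (f6 : F6 Γ) (f7 : F7 Γ) {v y : G}
    (h : A4 v y) : (∃ P, Γ.Pt P ∧ v ∈ P ∧ y ∈ Subgroup.normalizer (P : Set G)) ∨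
      (Γ.B v ∧ ∀ P, Γ.Pt P → v ∈ P → y * v * y⁻¹ ∉ P) := by
  obtain ⟨e1, e2, e3⟩ := h.facts
  have hne : v ≠ y * v * y⁻¹ := by
    intro hv
    have h4 : v * (y * v * y⁻¹) = 1 := by rw [← hv]; exact h.vsq
    rw [h4] at e3
    exact h.vne (by rw [← e3]; group)
  have hbne : y * v * y⁻¹ ≠ 1 := fun h5 => h.vne (conj_eq_one_iff.1 h5)
  rcases f1.invol v h.vne h.vsq with hA | hB
  · left
    have hA2 : Γ.A (y * v * y⁻¹) := f1.A_conj _ _ hA
    have hA3 : Γ.A (v * (y * v * y⁻¹)) := by rw [← e1]; exact f1.A_conj _ _ hA2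
    obtain ⟨P, hP, hvP, hbP⟩ := f7 v (y * v * y⁻¹) hA hA2 e2 hA3
    -- the image of `P`
    have hyP : v ∈ cj y P ∧ y * v * y⁻¹ ∈ cj y P := by
      refine ⟨?_, mem_cj_of hvP⟩
      have := mem_cj_of (g := y) (P.mul_mem hvP hbP)
      rwa [e3] at this
    by_cases hPP : cj y P = P
    · exact ⟨P, hP, hvP, mem_normalizer_of_cj hPP⟩
    · -- a line
      have hP' : Γ.Pt (cj y P) := f1.Pt_conj _ _ hP
      have hD : Γ.Ln (P ⊓ cj y P) := by
        rcases f5 P (cj y P) hP hP' (Ne.symm hPP) with h5 | ⟨z, -, h5⟩ | h5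
        · exfalso
          have : v ∈ (⊥ : Subgroup G) := by
            rw [← h5]; exact ⟨hvP, hyP.1⟩
          exact h.vne (Subgroup.mem_bot.1 this)
        · exfalso
          have h6 := (h5 v).1 ⟨hvP, hyP.1⟩
          have h7 := (h5 _).1 ⟨hbP, hyP.2⟩
          rcases h6 with h6 | h6
          · exact h.vne h6
          · rcases h7 with h7 | h7
            · exact hbne h7
            · exact hne (h6.trans h7.symm)
        · exact h5
      set D := P ⊓ cj y P with hDd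
      have hvD : v ∈ D := ⟨hvP, hyP.1⟩
      have hbD : y * v * y⁻¹ ∈ D := ⟨hbP, hyP.2⟩
      have hDy : cj y D = D := by
        symm
        apply f6.uniq D (cj y D) hD (f1.Ln_conj _ _ hD) v (y * v * y⁻¹) h.vne hbne hne hvD hbD
        · have := mem_cj_of (g := y) (D.mul_mem hvD hbD)
          rwa [e3] at this
        · exact mem_cj_of hvD
      -- the five points
      have h5 := f6.five D hD
      set S : Set (Subgroup G) := {P | Γ.Pt P ∧ D ≤ P} with hS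
      have hmap : ∀ Q ∈ S, cj y Q ∈ S := by
        rintro Q ⟨hQ, hQ2⟩
        refine ⟨f1.Pt_conj _ _ hQ, ?_⟩
        rw [← hDy]
        exact Subgroup.map_mono hQ2
      have hfin : Finite S := by
        apply Set.Finite.to_subtype
        apply Set.finite_of_ncard_ne_zero
        rw [h5]; norm_num
      let f : S → S := fun Q => ⟨cj y Q.1, hmap _ Q.2⟩
      have hf : (show Function.End S from f) ^ 3 ^ 1 = 1 := by
        funext Q
        apply Subtype.ext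
        show cj y (cj y (cj y Q.1)) = Q.1
        rw [cj_cj', cj_cj', show y * y * y = 1 from h.y3, cj_one']
      have : Fintype S := Fintype.ofFinite S
      have : Fact (Nat.Prime 3) := ⟨Nat.prime_three⟩
      classical
      have h6 := Equiv.Perm.card_fixedPoints_modEq hf
      have h7 : Fintype.card S = 5 := by
        rw [← Nat.card_eq_fintype_card, Nat.card_coe_set_eq, h5]
      rw [h7] at h6
      by_contra hno
      push Not at hno
      have h0 : Fintype.card (Function.fixedPoints f) = 0 := by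
        rw [Fintype.card_eq_zero_iff]
        refine ⟨fun Q => ?_⟩
        have h8 : cj y Q.1.1 = Q.1.1 := congrArg Subtype.val Q.2
        exact hno Q.1.1 Q.1.2.1 (Q.1.2.2 hvD) (mem_normalizer_of_cj h8)
      have h8 : 5 ≡ Fintype.card (Function.fixedPoints f) [MOD 3] := by convert h6
      rw [h0] at h8
      exact absurd h8 (by decide)
  · obtain ⟨P, hP, hvP, huniq, -⟩ := f4 v hB
    by_cases hbP : y * v * y⁻¹ ∈ P
    · left
      refine ⟨P, hP, hvP, mem_normalizer_of_cj ?_⟩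
      have hB2 : Γ.B (y * v * y⁻¹) := f1.B_conj _ _ hB
      obtain ⟨P2, -, -, huniq2, -⟩ := f4 _ hB2
      rw [huniq2 P hP hbP]
      rw [← huniq2 (cj y P) (f1.Pt_conj _ _ hP) (mem_cj_of hvP)]
      rw [huniq2 (cj y P) (f1.Pt_conj _ _ hP) (mem_cj_of hvP), ← huniq2 P hP hbP]
      exact (huniq2 (cj y P) (f1.Pt_conj _ _ hP) (mem_cj_of hvP)).trans (huniq2 P hP hbP).symm
    · right
      refine ⟨hB, fun Q hQ hvQ => ?_⟩
      rw [huniq Q hQ hvQ]; exact hbP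

end Cfsg.Agent.H761.JM
end

-- part: H878/JM/E2
section
/-!
# S5580, Part III: the nine classes of `A4`-subgroups of `J4`

`e2 : E2`. `GeoRed.geo_red` (helper761): either `y` normalizes a conjugate of `V = 2^11` containing `v`
(`caseP0` of helper761 gives six classes) or `v` is of class 2B and `y v y⁻¹` is not in the conjugate of `V` containing
`v` (`EQ.Q` of helper265 gives three classes).
-/

set_option autoImplicit false
set_option maxRecDepth 20000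

open Cfsg

namespace Cfsg.Agent.H878.JM.E2

open Cfsg.Agent.Lib Cfsg.Agent.Lib.F2MatGroup
open Cfsg.Agent.J4.Rep112 Cfsg.Agent.J4.LowerData Cfsg.Agent.J4.Beta
open Cfsg.Agent.J4.Classes Cfsg.Agent.J4.ClassesData Cfsg.Agent.J4.ClassesAbs
open Cfsg.Agent.H858.VK Cfsg.Agent.H878.JM.Base Cfsg.Agent.H858.Data Cfsg.Agent.H858
open Cfsg.Agent.J4.Pres Cfsg.Agent.J4.M24Hom Cfsg.Agent.J4.Lower
open Cfsg.Agent.J4.Nodes (wordG wordP letG)
open Cfsg.Agent.J4.Invol (EJ s d)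
open Cfsg.Agent.H860.JM
open Cfsg.Agent.H761.JM (k0 k1 w0 A4 geo_red caseP0)

local notation "𝒢" => Cfsg.Spor.J4

/-- the environment -/
noncomputable def LP : List 𝒢 := runG slpP LJ

theorem map_LP : LP.map rho = runG (slpJ ++ slpP) mgens := by
  unfold LP LJ mgens
  rw [runG_append, runG_map, runG_map]

theorem soundP {a b : List ℕ} (hp : (a, b) ∈ esP) : evG LP a = evG LP b := by
  obtain ⟨L', h', hk⟩ := run_sound codes_gens checkP
  have h'' : List.Forall₂ (Codes 112) (LP.map rho) L' := by rw [map_LP]; exact h'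
  apply Cfsg.Agent.H858.VK.rho_injective
  rw [← evG_map, ← evG_map]
  exact eqs_sound h'' hk (a, b) hp

theorem slpP_length : slpP.length = 8 := by decide

theorem getG_LP (i : ℕ) : getG LP (8 + i) = getG LJ i := by
  have h := getG_runG slpP LJ i
  rwa [slpP_length] at h

theorem getG_LP' {i : ℕ} (hi : i < 11) : getG LP (27 + i) = lJ.getD i 1 := by
  rw [show 27 + i = 8 + (19 + i) by ring, getG_LP, Cfsg.Agent.H265.JM.EQ.getG_LJ hi]

theorem evG_bp (v : ℕ) : evG LP (bw 11 27 v) = V v := by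
  have h := evG_bw LP lJ 27 v (by rw [lJ_length]; exact fun i hi => getG_LP' hi)
  rwa [lJ_length] at h

theorem K0_eq : getG LP 7 = phi k0 := by
  have h1 : getG LP 7 = evG LJ (w0.map (32 + ·)) := rfl
  rw [h1, evG_shift (L' := [x, y, y⁻¹]), Cfsg.Agent.H265.JM.EQ.ev_phi (by decide)]
  · rfl
  · intro i hi
    have h3 : i = 0 ∨ i = 1 ∨ i = 2 := by
      have : ∀ i ∈ w0, i = 0 ∨ i = 1 ∨ i = 2 := by decide
      exact this i hi
    rcases h3 with rfl | rfl | rfl <;> rfl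

theorem K1_eq : getG LP 6 = phi k1 := by
  have h1 : getG LP 6 = evG (getG LP 7 :: LJ) (Cfsg.Agent.H761.JM.w1.map (33 + ·)) := rfl
  rw [h1, evG_shift (L' := [x, y, y⁻¹]), Cfsg.Agent.H265.JM.EQ.ev_phi (by decide)]
  · rfl
  · intro i hi
    have h3 : i = 0 ∨ i = 1 ∨ i = 2 := by
      have : ∀ i ∈ Cfsg.Agent.H761.JM.w1, i = 0 ∨ i = 1 ∨ i = 2 := by decide
      exact this i hi
    rcases h3 with rfl | rfl | rfl <;> rfl

theorem ev1 (i : ℕ) : evG LP [i] = getG LP i := by rw [evG_cons, evG_nil, mul_one]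
theorem ev2 (i j : ℕ) : evG LP [i, j] = getG LP i * getG LP j := by rw [evG_cons, ev1]
theorem evp (a b : List ℕ) : evG LP (a ++ b) = evG LP a * evG LP b := evG_append _ a b

theorem iy0 : getG LP 26 = y0 := getG_LP 18
theorem iv1 : getG LP 16 = v1 := getG_LP 8
theorem iv2 : getG LP 15 = v2 := getG_LP 7
theorem iv3 : getG LP 14 = v3 := getG_LP 6
theorem iv5 : getG LP 12 = v5 := getG_LP 4
theorem iv7 : getG LP 10 = v7 := getG_LP 2
theorem iv8 : getG LP 9 = v8 := getG_LP 1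

/-- the equation for `y0` -/
theorem ey {h k : ℕ} {a : 𝒢} (e : ([h, 26], [k, h]) ∈ esP) (hk : getG LP k = a) :
    getG LP h * y0 = a * getG LP h := by
  have h := soundP e
  rwa [ev2, ev2, iy0, hk] at h

/-- the equation for `v` -/
theorem ev {h k r : ℕ} {a : 𝒢} (e : ([h, k], bw 11 27 r ++ [h]) ∈ esP) (hk : getG LP k = a) :
    getG LP h * a = V r * getG LP h := by
  have h := soundP e
  rwa [ev2, evp, evG_bp, ev1, hk] at h

/-- transport back to the standard pair -/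
theorem back {y v k h v' a b : 𝒢} (h1 : k * y * k⁻¹ = b) (h2 : k * v * k⁻¹ = a) (e1 : h * y0 = b * h)
    (e2 : h * v' = a * h) :
    (h⁻¹ * k) * y * (h⁻¹ * k)⁻¹ = y0 ∧ (h⁻¹ * k) * v * (h⁻¹ * k)⁻¹ = v' := by
  constructor
  · calc (h⁻¹ * k) * y * (h⁻¹ * k)⁻¹ = h⁻¹ * ((k * y * k⁻¹) * h) := by group
      _ = y0 := by rw [h1, ← e1, inv_mul_cancel_left]
  · calc (h⁻¹ * k) * v * (h⁻¹ * k)⁻¹ = h⁻¹ * ((k * v * k⁻¹) * h) := by group
      _ = v' := by rw [h2, ← e2, inv_mul_cancel_left]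

/-- **(P)** -/
theorem P {v y : 𝒢} (hv : v ∈ EJ) (hv1 : v ≠ 1)
    (hyN : y ∈ Subgroup.normalizer (EJ : Set 𝒢)) (h3 : y * y * y = 1) (h1 : y ≠ 1)
    (hvy : v * y * (v * y) * (v * y) = 1) :
    ∃ g, g * y * g⁻¹ = y0 ∧ (g * v * g⁻¹ = v1 ∨ g * v * g⁻¹ = v2 ∨ g * v * g⁻¹ = v3 ∨
      g * v * g⁻¹ = v5 ∨ g * v * g⁻¹ = v7 ∨ g * v * g⁻¹ = v8) := by
  obtain ⟨g, ⟨hg, r, hr, hgr⟩ | ⟨hg, r, hr, hgr⟩⟩ := caseP0 hv hv1 hyN h3 h1 hvy
  · have hr' : r = 972 ∨ r = 1661 := by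
      rcases List.mem_cons.1 hr with h | h
      · exact Or.inl h
      · exact Or.inr (List.mem_singleton.1 h)
    rcases hr' with rfl | rfl
    · obtain ⟨b1, b2⟩ := back hg hgr (ey (h := 5) (k := 7) (by decide) K0_eq)
        (ev (h := 5) (k := 16) (r := 972) (by decide) iv1)
      exact ⟨_, b1, Or.inl b2⟩
    · obtain ⟨b1, b2⟩ := back hg hgr (ey (h := 4) (k := 7) (by decide) K0_eq)
        (ev (h := 4) (k := 15) (r := 1661) (by decide) iv2)
      exact ⟨_, b1, Or.inr (Or.inl b2)⟩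
  · have hr' : r = 6 ∨ r = 226 ∨ r = 51 ∨ r = 170 := by
      have h : ∀ r ∈ Cfsg.Agent.H761.JM.R1, r = 6 ∨ r = 226 ∨ r = 51 ∨ r = 170 := by decide
      exact h r hr
    rcases hr' with rfl | rfl | rfl | rfl
    · obtain ⟨b1, b2⟩ := back hg hgr (ey (h := 1) (k := 6) (by decide) K1_eq)
        (ev (h := 1) (k := 10) (r := 6) (by decide) iv7)
      exact ⟨_, b1, Or.inr (Or.inr (Or.inr (Or.inr (Or.inl b2))))⟩
    · obtain ⟨b1, b2⟩ := back hg hgr (ey (h := 0) (k := 6) (by decide) K1_eq)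
        (ev (h := 0) (k := 9) (r := 226) (by decide) iv8)
      exact ⟨_, b1, Or.inr (Or.inr (Or.inr (Or.inr (Or.inr b2))))⟩
    · obtain ⟨b1, b2⟩ := back hg hgr (ey (h := 3) (k := 6) (by decide) K1_eq)
        (ev (h := 3) (k := 14) (r := 51) (by decide) iv3)
      exact ⟨_, b1, Or.inr (Or.inr (Or.inl b2))⟩
    · obtain ⟨b1, b2⟩ := back hg hgr (ey (h := 2) (k := 6) (by decide) K1_eq)
        (ev (h := 2) (k := 12) (r := 170) (by decide) iv5)
      exact ⟨_, b1, Or.inr (Or.inr (Or.inr (Or.inl b2)))⟩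

theorem mem_cj_iff {g x : 𝒢} {P : Subgroup 𝒢} : x ∈ cj g P ↔ g⁻¹ * x * g ∈ P := by
  constructor
  · rintro ⟨z, hz, rfl⟩
    have : g⁻¹ * (MulAut.conj g).toMonoidHom z * g = z := by
      show g⁻¹ * (g * z * g⁻¹) * g = z
      group
    rw [this]; exact hz
  · intro h
    refine ⟨_, h, ?_⟩
    show g * (g⁻¹ * x * g) * g⁻¹ = x
    group

/-- transport of the conclusion along a conjugation -/
theorem tr {y v g w : 𝒢} {Q : 𝒢 → Prop}
    (h : ∃ k, k * (g⁻¹ * y * g) * k⁻¹ = w ∧ Q (k * (g⁻¹ * v * g) * k⁻¹)) :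
    ∃ k, k * y * k⁻¹ = w ∧ Q (k * v * k⁻¹) := by
  obtain ⟨k, h1, h2⟩ := h
  have e : ∀ u : 𝒢, k * (g⁻¹ * u * g) * k⁻¹ = (k * g⁻¹) * u * (k * g⁻¹)⁻¹ := fun u => by group
  rw [e] at h1 h2
  exact ⟨_, h1, h2⟩

theorem cube_tr {g v y : 𝒢} (h : v * y * (v * y) * (v * y) = 1) :
    g⁻¹ * v * g * (g⁻¹ * y * g) * (g⁻¹ * v * g * (g⁻¹ * y * g)) * (g⁻¹ * v * g * (g⁻¹ * y * g)) = 1 := by
  have : g⁻¹ * v * g * (g⁻¹ * y * g) * (g⁻¹ * v * g * (g⁻¹ * y * g)) * (g⁻¹ * v * g * (g⁻¹ * y * g)) =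
      g⁻¹ * (v * y * (v * y) * (v * y)) * g := by group
  rw [this, h]; group

theorem three_tr {g y : 𝒢} (h : y * y * y = 1) :
    g⁻¹ * y * g * (g⁻¹ * y * g) * (g⁻¹ * y * g) = 1 := by
  have : g⁻¹ * y * g * (g⁻¹ * y * g) * (g⁻¹ * y * g) = g⁻¹ * (y * y * y) * g := by group
  rw [this, h]; group

theorem ne_tr {g y : 𝒢} (h : y ≠ 1) : g⁻¹ * y * g ≠ 1 := by
  intro e
  apply h
  have : y = g * (g⁻¹ * y * g) * g⁻¹ := by group
  rw [this, e]; group

/-- `u` is one of `v1, …, v9` -/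
def Nine (u : 𝒢) : Prop := u = v1 ∨ u = v2 ∨ u = v3 ∨ u = v4 ∨ u = v5 ∨ u = v6 ∨ u = v7 ∨ u = v8 ∨ u = v9

/-- **The nine classes of `A4`-subgroups.** -/
theorem e2 : Five.E2 := by
  rintro y v ⟨hy1, hy3, hv1, hv2, hbr⟩
  have hvy : v * y * (v * y) * (v * y) = 1 := by rw [← hbr, pow_succ, pow_two]
  have h5 : F5 geo := Cfsg.Agent.H68.JM.f5
  rcases geo_red f1 f4 h5 (Cfsg.Agent.H825.JM.f6 h5) Cfsg.Agent.H41.JM.f7 ⟨hv1, hv2, hy3, hvy⟩ with
    ⟨_, ⟨g, rfl⟩, hvP, hyP⟩ | ⟨hB, hno⟩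
  · apply tr (g := g) (Q := Nine)
    have hvE : g⁻¹ * v * g ∈ EJ := mem_cj_iff.1 hvP
    have hyE : g⁻¹ * y * g ∈ Subgroup.normalizer (EJ : Set 𝒢) := by
      rw [Subgroup.mem_normalizer_iff] at hyP ⊢
      intro h
      have e1 := hyP (g * h * g⁻¹)
      rw [mem_cj_iff, mem_cj_iff] at e1
      have e2 : g⁻¹ * (g * h * g⁻¹) * g = h := by group
      have e3 : g⁻¹ * (y * (g * h * g⁻¹) * y⁻¹) * g = g⁻¹ * y * g * h * (g⁻¹ * y * g)⁻¹ := by group
      rw [e2, e3] at e1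
      exact e1
    obtain ⟨k, h1, h | h | h | h | h | h⟩ := P hvE (ne_tr hv1) hyE (three_tr hy3) (ne_tr hy1) (cube_tr hvy)
    · exact ⟨k, h1, Or.inl h⟩
    · exact ⟨k, h1, Or.inr (Or.inl h)⟩
    · exact ⟨k, h1, Or.inr (Or.inr (Or.inl h))⟩
    · exact ⟨k, h1, Or.inr (Or.inr (Or.inr (Or.inr (Or.inl h))))⟩
    · exact ⟨k, h1, Or.inr (Or.inr (Or.inr (Or.inr (Or.inr (Or.inr (Or.inl h))))))⟩
    · exact ⟨k, h1, Or.inr (Or.inr (Or.inr (Or.inr (Or.inr (Or.inr (Or.inr (Or.inl h)))))))⟩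
  · obtain ⟨_, ⟨g, rfl⟩, hvP, -, -⟩ := f4 v hB
    apply tr (g := g) (Q := Nine)
    have hvE : g⁻¹ * v * g ∈ EJ := mem_cj_iff.1 hvP
    have hB' : IsConj d (g⁻¹ * v * g) := by
      have h : IsConj v (g⁻¹ * v * g) := isConj_iff.2 ⟨g⁻¹, by group⟩
      exact IsConj.trans hB h
    have hn : g⁻¹ * y * g * (g⁻¹ * v * g) * (g⁻¹ * y * g)⁻¹ ∉ EJ := by
      intro h
      apply hno _ ⟨g, rfl⟩ hvP
      rw [mem_cj_iff]
      have e3 : g⁻¹ * (y * v * y⁻¹) * g = g⁻¹ * y * g * (g⁻¹ * v * g) * (g⁻¹ * y * g)⁻¹ := by group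
      rw [e3]; exact h
    obtain ⟨k, h1, h | h | h⟩ := Cfsg.Agent.H265.JM.EQ.Q hB' hvE (three_tr hy3) (cube_tr hvy) hn
    · exact ⟨k, h1, Or.inr (Or.inr (Or.inr (Or.inl h)))⟩
    · exact ⟨k, h1, Or.inr (Or.inr (Or.inr (Or.inr (Or.inr (Or.inl h)))))⟩
    · exact ⟨k, h1, Or.inr (Or.inr (Or.inr (Or.inr (Or.inr (Or.inr (Or.inr (Or.inr h)))))))⟩

end Cfsg.Agent.H878.JM.E2
end
end
end
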